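import Cfsg.Agent.Lib.Linear.RegUnipotentGen

/-!
# Two regular unipotent elements generating `SL_n`: the companion element and spreading of transvections
-/

set_option autoImplicit false
set_option linter.style.haveILetI false

namespace Cfsg.Lib.Linear.TwoReg

open Matrix Cfsg.Lib.Linear Cfsg.Lib.Linear.TVec Cfsg.Lib.Linear.AutPSL Cfsg.Lib.Linear.MinIndex
open Cfsg.Lib.Linear.RegUnipotentGen
open scoped MatrixGroups

variable {n : ℕ} {F : Type*} [Field F]

/-- The signed binomial coefficients. -/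
def cc (n : ℕ) (F : Type*) [Field F] (j : ℕ) : F := -((-1) ^ (n - j) * (n.choose j : F))

/-- The companion matrix of `(X - 1) ^ n`. -/
def cm (n : ℕ) (F : Type*) [Field F] : Matrix (Fin n) (Fin n) F :=
  Matrix.of fun i j => (if i.val = j.val + 1 then 1 else 0) + (if j.val + 1 = n then cc n F i.val else 0)

theorem bas_apply (k : ℕ) (i : Fin n) : (bas k : Fin n → F) i = if i.val = k then 1 else 0 := rfl

theorem bas_zero_of_le {k : ℕ} (hk : n ≤ k) : (bas k : Fin n → F) = 0 := by
  funext i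
  simp [bas, show i.val ≠ k by omega]

theorem mulVec_bas (M : Matrix (Fin n) (Fin n) F) {k : ℕ} (hk : k < n) (i : Fin n) :
    (M *ᵥ bas k) i = M i ⟨k, hk⟩ := by
  rw [mulVec, dot_bas _ hk]

theorem ext_bas {M N : Matrix (Fin n) (Fin n) F} (h : ∀ k, k < n → M *ᵥ bas k = N *ᵥ bas k) : M = N := by
  ext i j
  have := congrFun (h j.val j.isLt) i
  rwa [mulVec_bas _ j.isLt, mulVec_bas _ j.isLt] at this

theorem cm_bas {k : ℕ} (hk : k + 1 < n) : cm n F *ᵥ bas k = bas (k + 1) := by
  funext i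
  rw [mulVec_bas _ (show k < n by omega)]
  simp [cm, bas, show k + 1 ≠ n by omega]

theorem cm_last (hn : 0 < n) : cm n F *ᵥ bas (n - 1) = fun i : Fin n => cc n F i.val := by
  funext i
  rw [mulVec_bas _ (show n - 1 < n by omega)]
  simp [cm, show n - 1 + 1 = n by omega, i.isLt.ne]

theorem cm_pow_bas {k : ℕ} (hk : k < n) : (cm n F ^ k) *ᵥ bas 0 = bas k := by
  induction k with
  | zero => simp
  | succ k ih => rw [pow_succ', ← mulVec_mulVec, ih (by omega), cm_bas hk]

theorem cm_apply (hn : 0 < n) (x : Fin n → F) (m : Fin n) :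
    (cm n F *ᵥ x) m = (if h : 0 < m.val then x ⟨m.val - 1, by omega⟩ else 0) + x ⟨n - 1, by omega⟩ * cc n F m.val := by
  rw [mulVec, dotProduct]
  simp only [cm, Matrix.of_apply, add_mul, Finset.sum_add_distrib]
  congr 1
  · by_cases h : 0 < m.val
    · rw [dif_pos h, Finset.sum_eq_single ⟨m.val - 1, by omega⟩]
      · rw [if_pos (show m.val = m.val - 1 + 1 by omega), one_mul]
      · intro b _ hb
        rw [if_neg (fun e => hb (Fin.ext (show b.val = m.val - 1 by omega))), zero_mul]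
      · simp
    · rw [dif_neg h]
      refine Finset.sum_eq_zero fun b _ => ?_
      rw [if_neg (by omega), zero_mul]
  · rw [Finset.sum_eq_single ⟨n - 1, by omega⟩]
    · rw [if_pos (show n - 1 + 1 = n by omega), mul_comm]
    · intro b _ hb
      rw [if_neg (fun e => hb (Fin.ext (show b.val = n - 1 by omega))), zero_mul]
    · simp

theorem cc_ne_zero : cc n F 0 ≠ 0 := by
  simp [cc]

theorem cc_zero : cc n F 0 = -(-1) ^ n := by
  simp [cc]

theorem cc_one (hn : 0 < n) : cc n F 1 = (-1) ^ n * (n : F) := by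
  obtain ⟨k, rfl⟩ : ∃ k, n = k + 1 := ⟨n - 1, by omega⟩
  simp [cc, pow_succ]

theorem cc_pred (hn : 0 < n) : cc n F (n - 1) = (n : F) := by
  rw [cc, show n - (n - 1) = 1 by omega, Nat.choose_symm (show 1 ≤ n by omega), Nat.choose_one_right]
  simp

theorem cm_sub_one_pow : (cm n F - 1) ^ n = 0 := by
  rcases Nat.eq_zero_or_pos n with rfl | hn
  · exact Subsingleton.elim _ _
  have h0 : ((cm n F - 1) ^ n) *ᵥ bas 0 = 0 := by
    rw [sub_eq_add_neg, (Commute.one_right (cm n F)).neg_right.add_pow, Matrix.sum_mulVec, Finset.sum_range_succ]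
    have e : ∀ m, (cm n F ^ m * (-1) ^ (n - m) * (n.choose m : Matrix (Fin n) (Fin n) F)) *ᵥ bas 0 =
        ((-1) ^ (n - m) * (n.choose m : F)) • ((cm n F ^ m) *ᵥ bas 0) := by
      intro m
      rw [← Matrix.smul_mulVec]
      congr 1
      rw [mul_assoc, show (-1 : Matrix (Fin n) (Fin n) F) ^ (n - m) * (n.choose m : Matrix (Fin n) (Fin n) F) =
        ((-1) ^ (n - m) * (n.choose m : F)) • 1 by
          rw [← Algebra.algebraMap_eq_smul_one, map_mul, map_pow, map_neg, map_one, map_natCast], mul_smul_comm, mul_one]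
    simp only [e]
    rw [show (cm n F ^ n) *ᵥ bas 0 = fun i : Fin n => cc n F i.val by
      rw [← Nat.succ_pred_eq_of_pos hn] at *
      exact (by
        rw [pow_succ', ← mulVec_mulVec, cm_pow_bas (Nat.lt_succ_self _)]
        exact cm_last (Nat.succ_pos _))]
    funext i
    rw [Pi.add_apply, Finset.sum_apply, Finset.sum_eq_single i.val]
    · simp [cm_pow_bas i.isLt, bas, cc]
    · intro m hm hne
      simp [cm_pow_bas (Finset.mem_range.1 hm), bas, Ne.symm hne]
    · intro h
      exact absurd (Finset.mem_range.2 i.isLt) h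
  refine ext_bas fun k hk => ?_
  rw [← cm_pow_bas hk, mulVec_mulVec,
    ← ((Commute.refl (cm n F)).sub_right (Commute.one_right _)).pow_pow k n, ← mulVec_mulVec, h0, mulVec_zero, zero_mulVec]

theorem cm_sub_one_pow_ne (hn : 0 < n) : (cm n F - 1) ^ (n - 1) ≠ 0 := by
  intro h
  have e : ∀ k, k < n → ((cm n F - 1) ^ k) *ᵥ bas 0 ⬝ᵥ (bas k : Fin n → F) = 1 ∧
      ∀ i, k < i → i < n → ((cm n F - 1) ^ k) *ᵥ bas 0 ⬝ᵥ (bas i : Fin n → F) = 0 := by
    intro k
    induction k with
    | zero =>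
      refine fun _ => ⟨?_, fun i hi hin => ?_⟩ <;>
        (rw [pow_zero, one_mulVec, dot_bas _ (by omega)]; simp [bas]; try omega)
    | succ k ih =>
      intro hk
      obtain ⟨h1, h2⟩ := ih (by omega)
      have step : ∀ i, k < i → i < n → ((cm n F - 1) ^ (k + 1)) *ᵥ bas 0 ⬝ᵥ (bas i : Fin n → F) =
          ((cm n F - 1) ^ k) *ᵥ bas 0 ⬝ᵥ (bas (i - 1) : Fin n → F) := by
        intro i hi hin
        have hl := h2 (n - 1) (by omega) (by omega)
        rw [dot_bas _ (show n - 1 < n by omega)] at hl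
        rw [pow_succ', ← mulVec_mulVec, sub_mulVec, one_mulVec, sub_dotProduct, h2 i hi hin, sub_zero,
          dot_bas _ hin, cm_apply (by omega), dif_pos (show 0 < (⟨i, hin⟩ : Fin n).val by show 0 < i; omega), hl,
          zero_mul, add_zero, dot_bas _ (show i - 1 < n by omega)]
      refine ⟨?_, fun i hi hin => ?_⟩
      · rw [step (k + 1) (by omega) hk, Nat.add_sub_cancel, h1]
      · rw [step i (by omega) hin, h2 (i - 1) (by omega) (by omega)]
  have := (e (n - 1) (by omega)).1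
  rw [h, zero_mulVec, zero_dotProduct] at this
  exact zero_ne_one this

theorem det_cm [Finite F] : (cm n F).det = 1 := by
  obtain ⟨p, hp⟩ := CharP.exists F
  haveI := hp
  haveI : Fact p.Prime := ⟨CharP.char_is_prime F p⟩
  rcases Nat.eq_zero_or_pos n with rfl | hn
  · exact det_fin_zero
  haveI : Nonempty (Fin n) := ⟨⟨0, hn⟩⟩
  haveI : CharP (Matrix (Fin n) (Fin n) F) p := inferInstance
  obtain ⟨k, hk⟩ : ∃ k, n < p ^ k := ⟨n, Nat.lt_pow_self (Fact.out : p.Prime).one_lt⟩
  have h : (cm n F - 1) ^ (p ^ k) = 0 := pow_eq_zero_of_le (le_of_lt hk) cm_sub_one_pow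
  rw [sub_pow_char_pow_of_commute _ _ (Commute.one_right _), one_pow, sub_eq_zero] at h
  have h2 := congrArg Matrix.det h
  rw [det_pow, det_one] at h2
  refine (iterateFrobenius_inj (R := F) p k) ?_
  rw [iterateFrobenius_def, iterateFrobenius_def, h2, one_pow]

/-- The companion element. -/
def cu (n : ℕ) (F : Type*) [Field F] [Finite F] : SpecialLinearGroup (Fin n) F := ⟨cm n F, det_cm⟩

variable [Fintype F] {P : Subgroup (SpecialLinearGroup (Fin n) F)}

/-- The transvection with centre `c • e_j` and axis vector `e_{n-1}`. -/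
def Z (P : Subgroup (SpecialLinearGroup (Fin n) F)) (j : ℕ) (c : F) : Prop :=
  TVec.InT (P.map SpecialLinearGroup.toGL) (c • bas j) (bas (n - 1))

/-- The transvection with centre `c • e_j` and axis vector `e_0`. -/
def A (P : Subgroup (SpecialLinearGroup (Fin n) F)) (j : ℕ) (c : F) : Prop :=
  TVec.InT (P.map SpecialLinearGroup.toGL) (c • bas j) (bas 0)

theorem conj_mem {x : SpecialLinearGroup (Fin n) F} (hx : x ∈ P) {z p q : Fin n → F}
    (hT : TVec.InT (P.map SpecialLinearGroup.toGL) z p) (h2 : q ᵥ* x.1 = p) :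
    TVec.InT (P.map SpecialLinearGroup.toGL) (x.1 *ᵥ z) q := by
  have h3 := inT_conj (g := SpecialLinearGroup.toGL x) (Subgroup.mem_map_of_mem _ hx) hT
  have e1 : ((SpecialLinearGroup.toGL x : GL (Fin n) F) : Matrix (Fin n) (Fin n) F) = x.1 := rfl
  rw [e1, ← h2] at h3
  have e2 : q ᵥ* x.1 ᵥ* (((SpecialLinearGroup.toGL x)⁻¹ : GL (Fin n) F) : Matrix (Fin n) (Fin n) F) = q := by
    rw [vecMul_vecMul, ← e1, ← Units.val_mul, mul_inv_cancel, Units.val_one, vecMul_one]
  rwa [e2] at h3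

theorem bas_vecMul (M : Matrix (Fin n) (Fin n) F) {k : ℕ} (hk : k < n) (j : Fin n) :
    (bas k ᵥ* M) j = M ⟨k, hk⟩ j := by
  rw [vecMul, dotProduct_comm, dot_bas _ hk]

theorem bas_zero_vecMul_cm (hn : 0 < n) :
    (bas 0 : Fin n → F) ᵥ* cm n F = cc n F 0 • bas (n - 1) := by
  funext j
  rw [bas_vecMul _ hn]
  by_cases h : j.val = n - 1
  · simp [cm, bas, h, show n - 1 + 1 = n by omega, show ¬ 0 = n by omega]
  · simp [cm, bas, h, show ¬ j.val + 1 = n by omega]

theorem last_dot_bas {i : ℕ} (hi : i + 1 < n) : (bas (n - 1) : Fin n → F) ⬝ᵥ bas i = 0 := by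
  rw [dot_bas _ (show i < n by omega)]; simp [bas]; omega

theorem zero_dot_bas {i : ℕ} (hi : 1 ≤ i) (hin : i < n) : (bas 0 : Fin n → F) ⬝ᵥ bas i = 0 := by
  rw [dot_bas _ hin]; simp [bas]; omega

theorem inT_scale {L : Subgroup (GL (Fin n) F)} {z a : Fin n → F} {c d : F}
    (h : TVec.InT L (c • z) (d • a)) : TVec.InT L ((d * c) • z) a := by
  have := inT_smul_left h
  rwa [smul_smul] at this

theorem A_of_Z (hu : cu n F ∈ P) {j : ℕ} (hj : j + 1 < n) {c : F} (h : Z P j c) :
    A P (j + 1) ((cc n F 0)⁻¹ * c) := by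
  have h1 := conj_mem hu h (q := (cc n F 0)⁻¹ • bas 0) (by
    show _ ᵥ* cm n F = _
    rw [smul_vecMul, bas_zero_vecMul_cm (by omega), smul_smul, inv_mul_cancel₀ cc_ne_zero, one_smul])
  rw [show (cu n F).1 *ᵥ (c • bas j) = c • bas (j + 1) by
    show cm n F *ᵥ _ = _; rw [mulVec_smul, cm_bas hj]] at h1
  exact inT_scale h1

theorem Z_of_A (hu : cu n F ∈ P) {j : ℕ} (hj : j + 1 < n) {c : F} (h : A P (j + 1) c) : Z P j (cc n F 0 * c) := by
  have e1 : (cu n F)⁻¹.1 *ᵥ (bas (j + 1) : Fin n → F) = bas j := by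
    conv_rhs => rw [← inv_mulVec (cu n F) (bas j)]
    congr 1
    exact (cm_bas hj).symm
  have h1 := conj_mem (P.inv_mem hu) h (q := cc n F 0 • bas (n - 1)) (by
    rw [← bas_zero_vecMul_cm (show 0 < n by omega), vecMul_vecMul]
    have e0 : cm n F * ((cu n F)⁻¹).1 = 1 := congrArg Subtype.val (mul_inv_cancel (cu n F))
    rw [e0, vecMul_one])
  rw [mulVec_smul, e1] at h1
  exact inT_scale h1

theorem Z_of_A_Z0 {i : ℕ} (hi : 1 ≤ i) (hin : i + 1 < n) {x b : F} (hx : A P i x) (hb : Z P 0 b) :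
    Z P i (b * x) := by
  have h1 := inT_comm hx hb (by rw [dotProduct_smul, last_dot_bas hin, smul_zero])
  rw [dotProduct_smul, dot_bas _ (show 0 < n by omega)] at h1
  simp only [bas, if_true, smul_eq_mul, mul_one] at h1
  exact inT_scale h1

theorem A_of_Z_A (hn : 2 ≤ n) {i : ℕ} (hi : 1 ≤ i) (hin : i < n) {x y : F} (hx : Z P i x)
    (hy : A P (n - 1) y) : A P i (y * x) := by
  have h1 := inT_comm hx hy (by rw [dotProduct_smul, zero_dot_bas hi hin, smul_zero])
  rw [dotProduct_smul, dot_bas _ (show n - 1 < n by omega)] at h1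
  simp only [bas, if_true, smul_eq_mul, mul_one] at h1
  exact inT_scale h1

theorem Z_up (hu : cu n F ∈ P) {c : F} (hc0 : c ≠ 0) (h : Z P 0 c) :
    ∀ j, j + 1 < n → ∃ d : F, d ≠ 0 ∧ Z P j d := by
  intro j
  induction j with
  | zero => exact fun _ => ⟨c, hc0, h⟩
  | succ j ih =>
    intro hj
    obtain ⟨d, hd, hd'⟩ := ih (by omega)
    exact ⟨_, mul_ne_zero hc0 (mul_ne_zero (inv_ne_zero cc_ne_zero) hd),
      Z_of_A_Z0 (by omega) hj (A_of_Z hu (by omega) hd') h⟩

theorem Z_down (hu : cu n F ∈ P) (hn : 2 ≤ n) {c : F} (hc0 : c ≠ 0) (h : Z P (n - 2) c) :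
    ∃ d : F, d ≠ 0 ∧ Z P 0 d := by
  have hA : A P (n - 1) ((cc n F 0)⁻¹ * c) := by
    have := A_of_Z hu (show n - 2 + 1 < n by omega) h
    rwa [show n - 2 + 1 = n - 1 by omega] at this
  have key : ∀ k, k ≤ n - 2 → ∃ d : F, d ≠ 0 ∧ Z P (n - 2 - k) d := by
    intro k
    induction k with
    | zero => exact fun _ => ⟨c, hc0, h⟩
    | succ k ih =>
      intro hk
      obtain ⟨d, hd, hd'⟩ := ih (by omega)
      have h1 := A_of_Z_A hn (show 1 ≤ n - 2 - k by omega) (show n - 2 - k < n by omega) hd' hA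
      rw [show n - 2 - k = n - 2 - (k + 1) + 1 by omega] at h1
      exact ⟨_, mul_ne_zero cc_ne_zero (mul_ne_zero (mul_ne_zero (inv_ne_zero cc_ne_zero) hc0) hd),
        Z_of_A hu (by omega) h1⟩
  obtain ⟨d, hd, hd'⟩ := key (n - 2) le_rfl
  exact ⟨d, hd, by rwa [Nat.sub_self] at hd'⟩

theorem full_down (hu : cu n F ∈ P) (hn : 2 ≤ n) {j : ℕ} (hj : j + 1 < n) (hfull : ∀ c, Z P j c) {y : F}
    (hy0 : y ≠ 0) (hy : Z P (n - 2) y) : ∀ c, Z P 0 c := by
  have hA : A P (n - 1) ((cc n F 0)⁻¹ * y) := by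
    have := A_of_Z hu (show n - 2 + 1 < n by omega) hy
    rwa [show n - 2 + 1 = n - 1 by omega] at this
  induction j with
  | zero => exact hfull
  | succ j ih =>
    refine ih (by omega) (fun c => ?_)
    have h1 := Z_of_A hu (show j + 1 < n by omega) (A_of_Z_A hn (by omega) (by omega) (hfull (y⁻¹ * c)) hA)
    convert h1 using 2
    have := cc_ne_zero (n := n) (F := F)
    field_simp

theorem full_up (hu : cu n F ∈ P) (h0 : ∀ c, Z P 0 c) : ∀ j, j + 1 < n → ∀ c, Z P j c := by
  intro j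
  induction j with
  | zero => exact fun _ => h0
  | succ j ih =>
    intro hj c
    have h1 := Z_of_A_Z0 (by omega) hj (A_of_Z hu (show j + 1 < n by omega) (ih (by omega) (cc n F 0 * c))) (h0 1)
    convert h1 using 2
    rw [one_mul, inv_mul_cancel_left₀ cc_ne_zero]

theorem top_of_full (hn : 2 ≤ n) (hu : cu n F ∈ P) (h0 : ∀ c, Z P 0 c) : P = ⊤ := by
  refine eq_top_iff.2 fun x _ => ?_
  have hall := full_up hu h0
  have hfull : ∀ z : Fin n → F, (bas (n - 1) : Fin n → F) ⬝ᵥ z = 0 →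
      TVec.InT (P.map SpecialLinearGroup.toGL) z (bas (n - 1)) := by
    intro z hz
    rw [sum_bas z]
    refine Finset.sum_induction _ (fun y => TVec.InT (P.map SpecialLinearGroup.toGL) y (bas (n - 1)))
      (fun _ _ h1 h2 => inT_add_left h1 h2) (inT_zero_left _) fun i _ => ?_
    by_cases hi : i.val + 1 < n
    · exact hall _ hi _
    · rw [dotProduct_comm, dot_bas _ (show n - 1 < n by omega)] at hz
      rw [show i = ⟨n - 1, by omega⟩ from Fin.ext (by show i.val = n - 1; omega), hz, zero_smul]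
      exact inT_zero_left _
  set L' := (P.map (tinv : SpecialLinearGroup (Fin n) F ≃* _).toMonoidHom).map SpecialLinearGroup.toGL
  have hmul : ∀ w ∈ fullSubmodule L', (cm n F)ᵀ *ᵥ w ∈ fullSubmodule L' := by
    intro w hw
    have hmem : SpecialLinearGroup.toGL (tinv (cu n F)⁻¹) ∈ L' :=
      Subgroup.mem_map_of_mem _ (Subgroup.mem_map_of_mem _ (P.inv_mem hu))
    have := full_mulVec hmem hw
    rw [mem_fullSubmodule]
    convert this using 2
    show _ = (tinv (cu n F)⁻¹).1
    rw [tinv_coe, inv_inv]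
    rfl
  have hlast : bas (n - 1) ∈ fullSubmodule L' := mem_fullSubmodule.2 fun b hb =>
    inT_map_tinv.2 ((inT_neg_iff).2 (hfull b (by rw [dotProduct_comm]; exact hb)))
  have hb : ∀ j, j < n → (bas (n - 1 - j) : Fin n → F) ∈ fullSubmodule L' := by
    intro j
    induction j with
    | zero => exact fun _ => hlast
    | succ j ih =>
      intro hj
      have e : (cm n F)ᵀ *ᵥ (bas (n - 1 - j) : Fin n → F) =
          bas (n - 1 - (j + 1)) + cc n F (n - 1 - j) • bas (n - 1) := by
        funext r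
        rw [mulVec_transpose, bas_vecMul _ (show n - 1 - j < n by omega)]
        simp [cm, bas]
        congr 1
        · exact if_congr ⟨fun h => by omega, fun h => by omega⟩ rfl rfl
        · exact if_congr ⟨fun h => by omega, fun h => by omega⟩ rfl rfl
      have h2 := hmul _ (ih (by omega))
      rw [e] at h2
      have h3 := (fullSubmodule L').sub_mem h2 ((fullSubmodule L').smul_mem (cc n F (n - 1 - j)) hlast)
      rwa [add_sub_cancel_right] at h3
  have hW : fullSubmodule L' = ⊤ := by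
    refine eq_top_iff.2 fun z _ => ?_
    rw [sum_bas z]
    refine Submodule.sum_mem _ fun i _ => Submodule.smul_mem _ _ ?_
    have := hb (n - 1 - i.val) (by omega)
    rwa [show n - 1 - (n - 1 - i.val) = i.val by omega] at this
  have hx : SpecialLinearGroup.toGL (tinv x) ∈ L' :=
    SL_le_of_full (fun w => mem_fullSubmodule.1 (hW ▸ Submodule.mem_top)) (Units.ext (by simp))
  obtain ⟨y, hy, hxy⟩ := hx
  obtain ⟨y, hy', rfl⟩ := hy
  have := (tinv : SpecialLinearGroup (Fin n) F ≃* _).injective (toGL_injective' hxy)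
  exact this ▸ hy'

/-- Closure of the centres under multiplication by an eigenvalue ratio. -/
theorem Z_scale {x : SpecialLinearGroup (Fin n) F} (hx : x ∈ P) {j : ℕ} {r ρ : F} (hρ : ρ ≠ 0)
    (hcol : x.1 *ᵥ bas j = r • bas j) (hrow : bas (n - 1) ᵥ* x.1 = ρ • bas (n - 1)) {c : F} (h : Z P j c) :
    Z P j (r / ρ * c) := by
  have h1 := conj_mem hx h (q := ρ⁻¹ • bas (n - 1)) (by
    rw [smul_vecMul, hrow, smul_smul, inv_mul_cancel₀ hρ, one_smul])
  rw [mulVec_smul, hcol, smul_smul] at h1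
  have h2 := inT_scale h1
  rw [show r / ρ * c = ρ⁻¹ * (c * r) by ring]
  exact h2

theorem full_of_gen {j : ℕ} {c g : F} (hc : c ≠ 0) (h : Z P j c) (hstep : ∀ d, Z P j d → Z P j (g * d))
    (hg0 : g ≠ 0) (hg : orderOf g = Fintype.card F - 1) : ∀ d, Z P j d := by
  classical
  intro d
  rcases eq_or_ne d 0 with rfl | hd
  · show TVec.InT _ _ _
    rw [zero_smul]; exact inT_zero_left _
  have hpow : ∀ k : ℕ, Z P j (g ^ k * c) := by
    intro k
    induction k with
    | zero => simpa using h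
    | succ k ih => rw [pow_succ', mul_assoc]; exact hstep _ ih
  have ho : orderOf (Units.mk0 g hg0) = Fintype.card Fˣ := by
    rw [Fintype.card_units, ← hg, ← orderOf_units]; rfl
  have hmem : Units.mk0 (d / c) (div_ne_zero hd hc) ∈ Submonoid.powers (Units.mk0 g hg0) :=
    mem_powers_iff_mem_zpowers.2 (by
      rw [Subgroup.eq_top_of_card_eq (Subgroup.zpowers (Units.mk0 g hg0))
        (by rw [Nat.card_zpowers, ho, Nat.card_eq_fintype_card])]
      trivial)
  obtain ⟨k, hk⟩ := hmem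
  have h2 := hpow k
  have e : g ^ k = d / c := by
    have := congrArg Units.val hk
    simpa using this
  rwa [e, div_mul_cancel₀ d hc] at h2

theorem inT_all_of_prime (hq : (Fintype.card F).Prime) {z a : Fin n → F}
    (h : TVec.InT (P.map SpecialLinearGroup.toGL) z a) (c : F) :
    TVec.InT (P.map SpecialLinearGroup.toGL) (c • z) a := by
  obtain ⟨p, hp⟩ := CharP.exists F
  haveI := hp
  haveI : Fact p.Prime := ⟨CharP.char_is_prime F p⟩
  obtain ⟨k, hk, hq'⟩ := FiniteField.card F p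
  have hk1 : (k : ℕ) = 1 := by
    rw [hq'] at hq
    exact (Nat.Prime.pow_eq_iff hq).1 rfl |>.2
  have hsurj : Function.Surjective (ZMod.castHom (dvd_refl p) F) := by
    refine ((Fintype.bijective_iff_injective_and_card _).2 ⟨RingHom.injective _, ?_⟩).2
    rw [ZMod.card, hq', hk1, pow_one]
  obtain ⟨m, rfl⟩ := hsurj c
  rw [ZMod.castHom_apply, ZMod.cast_eq_val, Nat.cast_smul_eq_nsmul]
  induction m.val with
  | zero => rw [zero_smul]; exact inT_zero_left _
  | succ t ih => rw [succ_nsmul]; exact inT_add_left ih h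

theorem Z_all_of_prime (hq : (Fintype.card F).Prime) {j : ℕ} {c : F} (hc : c ≠ 0) (h : Z P j c) :
    ∀ d, Z P j d := by
  intro d
  have h1 := inT_all_of_prime hq h (d / c)
  rwa [smul_smul, div_mul_cancel₀ d hc] at h1

end Cfsg.Lib.Linear.TwoReg
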