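import Cfsg.Agent.Lib.Linear.TwoReg.Designs

/-!
# Two regular unipotent elements generating `SL_n`: the designs over arbitrary fields
-/

set_option autoImplicit false
set_option linter.style.haveILetI false
set_option maxHeartbeats 1000000

namespace Cfsg.Lib.Linear.TwoReg

open Matrix Cfsg.Lib.Linear Cfsg.Lib.Linear.TVec Cfsg.Lib.Linear.AutPSL Cfsg.Lib.Linear.MinIndex
open Cfsg.Lib.Linear.RegUnipotentGen
open scoped MatrixGroups

variable {n : ℕ} {F : Type*} [Field F] [Fintype F]

theorem gen_pow_ne_one {γ : Fˣ} (hγ : orderOf γ = Fintype.card F - 1) {k : ℕ} (hk : 0 < k)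
    (h : k < Fintype.card F - 1) : (γ : F) ^ k ≠ 1 := by
  intro e
  have : γ ^ k = 1 := Units.ext (by simpa using e)
  exact absurd (Nat.le_of_dvd hk (hγ ▸ orderOf_dvd_of_pow_eq_one this)) (by omega)

theorem card_ne_six : Fintype.card F ≠ 6 := by
  intro h
  obtain ⟨p, hp⟩ := CharP.exists F
  haveI := hp
  haveI : Fact p.Prime := ⟨CharP.char_is_prime F p⟩
  obtain ⟨k, hk, hq⟩ := FiniteField.card F p
  rw [h] at hq
  have h2 : 2 ∣ p ^ (k : ℕ) := hq ▸ by norm_num
  have h3 : 3 ∣ p ^ (k : ℕ) := hq ▸ by norm_num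
  have e2 := (Nat.prime_dvd_prime_iff_eq Nat.prime_two hk).1 (Nat.prime_two.dvd_of_dvd_pow h2)
  have e3 := (Nat.prime_dvd_prime_iff_eq Nat.prime_three hk).1 (Nat.prime_three.dvd_of_dvd_pow h3)
  omega

theorem full_of_gen' {P : Subgroup (SpecialLinearGroup (Fin n) F)} {j : ℕ} {c : F} {g : Fˣ} (hc : c ≠ 0)
    (h : Z P j c) (hstep : ∀ d, Z P j d → Z P j (g * d)) (hg : orderOf g = Fintype.card F - 1) : ∀ d, Z P j d :=
  full_of_gen hc h hstep g.ne_zero (by rw [orderOf_units, hg])

/-- Arbitrary field, `p ∤ n`. -/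
theorem any_diag (hn : 4 ≤ n) (hq : 4 ≤ Fintype.card F) (hpn : (n : F) ≠ 0) :
    ∃ D : Datum n F, D.grp = ⊤ := by
  classical
  obtain ⟨γ, hγ⟩ := IsCyclic.exists_ofOrder_eq_natCard (α := Fˣ)
  rw [Nat.card_eq_fintype_card, Fintype.card_units] at hγ
  set d : ℕ → F := fun j =>
    if j = 0 then 1 else if j = 1 then ((γ : F) * γ)⁻¹ else if j + 1 = n then (γ : F) else (γ : F) * γ with hd'
  have hd : ∀ j, d j ≠ 0 := fun j => by simp only [hd']; split_ifs <;> simp
  have hγ1 : (γ : F) ≠ 1 := by simpa using gen_pow_ne_one hγ one_pos (by omega)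
  have dl : d (n - 1) = γ := by
    simp [hd', show n - 1 ≠ 0 by omega, show n - 1 ≠ 1 by omega, show n - 1 + 1 = n by omega]
  set D := qDatum (n := n) d hd (by simp [hd']) ∅ (by simp)
  obtain ⟨s, hs, hZ⟩ : ∃ s : F, s ≠ 0 ∧ Z D.grp (n - 2) s := by
    refine diag_seed (show n - 2 + 1 < n by omega) ?_ ?_ ?_ ?_
    · rw [dl, show n - 2 + 1 = n - 1 by omega, dl]
      simp [hd', show n - 2 ≠ 0 by omega, show n - 2 ≠ 1 by omega, show n - 2 + 1 ≠ n by omega]
    · intro j hj hne he
      exfalso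
      rw [dl] at he
      rcases Nat.lt_or_ge j 2 with h | h
      · interval_cases j
        · have e : d 0 / d (0 + 1) = (γ : F) * γ := by simp [hd']
          rw [e] at he
          exact hγ1 (mul_left_cancel₀ γ.ne_zero (he.trans (mul_one _).symm))
        · have e : d 1 / d (1 + 1) = ((γ : F) * γ)⁻¹ / ((γ : F) * γ) := by
            simp [hd', show ¬ 3 = n by omega]
          rw [e] at he
          have h5 : (γ : F) ^ 5 = 1 := by field_simp at he; linear_combination -he
          by_cases h6 : 5 < Fintype.card F - 1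
          · exact gen_pow_ne_one hγ (by norm_num) h6 h5
          · have hdvd : Fintype.card F - 1 ∣ 5 := hγ ▸ orderOf_dvd_of_pow_eq_one (Units.ext (by simpa using h5))
            rcases (Nat.dvd_prime (by norm_num)).1 hdvd with h1 | h1
            · omega
            · exact card_ne_six (F := F) (by omega)
      · have e : d j / d (j + 1) = 1 := by
          simp [hd', show j ≠ 0 by omega, show j ≠ 1 by omega, show j + 1 ≠ n by omega,
            show ¬ j + 1 + 1 = n by omega]
        rw [e] at he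
        exact hγ1 he.symm
    · rw [show n - 2 + 1 = n - 1 by omega, cc_pred (by omega)]
      exact hpn
    · rw [show n - 2 + 1 = n - 1 by omega, dl]
      exact hγ1
  obtain ⟨s', hs', hZ'⟩ := Z_down D.cu_mem (by omega) hs hZ
  refine ⟨D, top_of_full (by omega) D.cu_mem (full_of_gen' hs' hZ' (fun c hc => ?_) hγ)⟩
  have h := Z_scale D.hS_mem (hd (n - 1)) (r := (γ : F) * γ) ?_ (qDatum_row_last (by omega)) hc
  · rwa [dl, mul_div_assoc, div_self γ.ne_zero, mul_one] at h
  · rw [diag_col (show 0 + 1 < n by omega)]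
    simp [hd']

/-- Nonprime field, `p ∣ n`, `n ≥ 5`. -/
theorem any_div (hn : 5 ≤ n) (hq : ¬ (Fintype.card F).Prime) (hpn : (n : F) = 0) :
    ∃ D : Datum n F, D.grp = ⊤ := by
  classical
  obtain ⟨p, hp⟩ := CharP.exists F
  haveI := hp
  haveI : Fact p.Prime := ⟨CharP.char_is_prime F p⟩
  obtain ⟨k, hpp, hcard⟩ := FiniteField.card F p
  have hk2 : 2 ≤ (k : ℕ) := by
    by_contra h
    have : (k : ℕ) = 1 := by have := k.pos; omega
    rw [hcard, this, pow_one] at hq
    exact hq hpp
  have hq4 : p * p ≤ Fintype.card F := by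
    rw [hcard, ← pow_two]; exact Nat.pow_le_pow_right hpp.pos hk2
  have hp2 := hpp.two_le
  have hq4' : 4 ≤ Fintype.card F := le_trans (by nlinarith) hq4
  obtain ⟨γ, hγ⟩ := IsCyclic.exists_ofOrder_eq_natCard (α := Fˣ)
  rw [Nat.card_eq_fintype_card, Fintype.card_units] at hγ
  have hγ1 : (γ : F) ≠ 1 := by simpa using gen_pow_ne_one hγ one_pos (by omega)
  have hγ2 : (γ : F) * γ ≠ 1 := by simpa [pow_two] using gen_pow_ne_one hγ two_pos (by omega)
  set t : F := if n % 2 = 0 then (γ : F) else -1 with ht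
  have ht0 : t ≠ 0 := by rw [ht]; split_ifs <;> simp
  have hodd2 : n % 2 = 1 → (2 : F) ≠ 0 := by
    intro h h2
    obtain ⟨m, rfl⟩ : ∃ m, n = 2 * m + 1 := ⟨n / 2, by omega⟩
    push_cast at hpn
    rw [h2, zero_mul, zero_add] at hpn
    exact one_ne_zero hpn
  set d : ℕ → F := fun j => if j ≤ 1 then 1 else if j = 2 then t * (γ : F) ^ ((n - 3) % 2) * (γ : F)⁻¹
    else if j + 1 = n then 1 else t * (γ : F) ^ ((n - j) % 2) with hd'
  have hd : ∀ j, d j ≠ 0 := fun j => by simp only [hd']; split_ifs <;> simp [ht0]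
  have hd0 : d 0 = 1 := by simp [hd']
  have d1 : d 1 = 1 := by simp [hd']
  have dl : d (n - 1) = 1 := by
    simp [hd', show ¬ n - 1 ≤ 1 by omega, show n - 1 ≠ 2 by omega, show n - 1 + 1 = n by omega]
  have dj : ∀ j, 3 ≤ j → j + 1 < n → d j = t * (γ : F) ^ ((n - j) % 2) := fun j h3 hj => by
    simp [hd', show ¬ j ≤ 1 by omega, show j ≠ 2 by omega, show j + 1 ≠ n by omega]
  have d2 : d 2 = t * (γ : F) ^ ((n - 3) % 2) * (γ : F)⁻¹ := by simp [hd']
  have dt : d (n - 2) = t := by rw [dj _ (by omega) (by omega), show (n - (n - 2)) % 2 = 0 by omega, pow_zero, mul_one]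
  have ht1 : t ≠ 1 := by
    rw [ht]; split_ifs with h
    · exact hγ1
    · exact fun e => hodd2 (by omega) (by linear_combination -e)
  have hd21 : d 2 ≠ 1 := by
    rw [d2, ht]
    split_ifs with h
    · rw [show (n - 3) % 2 = 1 by omega, pow_one]
      field_simp
      exact hγ1
    · rw [show (n - 3) % 2 = 0 by omega, pow_zero, mul_one]
      intro e
      field_simp at e
      exact hγ2 (by rw [← e]; ring)
  obtain ⟨c0, hc0⟩ := bDatum_kappa (d := d) (hd := hd) (hd0 := hd0) hn hpn
  have hslope : (-2 * d (n - 1) / d 1 - d (n - 1) / d 2 / (d (n - 1) - d 1 / d 2) -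
      d (n - 2) / d 1 / (d (n - 1) - d (n - 2) / d (n - 1))) ≠ 0 := by
    have e1 : (1 : F) / d 2 / (1 - 1 / d 2) = 1 / (d 2 - 1) := by
      have := sub_ne_zero.2 hd21
      have := hd 2
      field_simp
    rw [dl, d1, dt, div_one, div_one, mul_one, e1]
    have h1t : (1 : F) - t ≠ 0 := sub_ne_zero.2 (Ne.symm ht1)
    rcases Nat.mod_two_eq_zero_or_one n with h | h
    · have et : d 2 = t := by
        rw [d2, show (n - 3) % 2 = 1 by omega, pow_one, mul_assoc, mul_inv_cancel₀ γ.ne_zero, mul_one]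
      rw [et]
      have h1t' : t - 1 ≠ 0 := sub_ne_zero.2 ht1
      have : -2 - 1 / (t - 1) - t / (1 - t) = (-1 : F) := by field_simp; ring
      rw [this]; simp
    · have h2 := hodd2 h
      have et : t = -1 := by rw [ht, if_neg (by omega)]
      have ed : d 2 = -(γ : F)⁻¹ := by
        rw [d2, et, show (n - 3) % 2 = 0 by omega, pow_zero]; ring
      rw [et, ed]
      intro e
      have h1γ : (γ : F) + 1 ≠ 0 := fun e' => hγ2 (by linear_combination ((γ : F) - 1) * e')
      have e' : -(γ : F)⁻¹ - 1 = -((γ : F) + 1) / γ := by field_simp; ring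
      rw [e', show (1 : F) - -1 = 2 by ring] at e
      field_simp at e
      have hγ3 : (γ : F) = -3 := by linear_combination -e
      have hfix : (γ : F) ^ p = γ := by
        rw [hγ3]
        have := map_neg (frobenius F p) 3
        rw [map_ofNat, frobenius_def] at this
        exact this
      have hpow : (γ : F) ^ (p - 1) = 1 := by
        apply mul_right_cancel₀ γ.ne_zero
        rw [← pow_succ, show p - 1 + 1 = p by omega, hfix, one_mul]
      refine gen_pow_ne_one hγ (show 0 < p - 1 by omega) ?_ hpow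
      have : p + p ≤ p * p := by nlinarith
      omega
  obtain ⟨B, hB⟩ : ∃ B : F, c0 + B * (-2 * d (n - 1) / d 1 - d (n - 1) / d 2 / (d (n - 1) - d 1 / d 2) -
      d (n - 2) / d 1 / (d (n - 1) - d (n - 2) / d (n - 1))) ≠ 0 := by
    by_cases h : c0 = 0
    · exact ⟨1, by rwa [h, zero_add, one_mul]⟩
    · exact ⟨0, by rwa [zero_mul, add_zero]⟩
  set D := bDatum hn d hd hd0 B
  obtain ⟨s, hs, hZ⟩ : ∃ s : F, s ≠ 0 ∧ Z D.grp 0 s := by
    refine seed D.hS_mem (show 0 + 1 < n by omega) (r := fun j => d j / d (j + 1))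
      (N := fun j => if j = 1 then 1 else if j + 2 = n then d j * B / d 1 else 0)
      (L := D.ll) (hd (n - 1)) (fun j _ => dd_ne hd j) ?_ ?_ (fun j hj => bDatum_col hn hj)
      (D.h_last (by omega)) ?_ ?_
    · show d 0 / d (0 + 1) = d (n - 1)
      rw [hd0, show (0 : ℕ) + 1 = 1 from rfl, d1, dl, div_one]
    · simp; omega
    · intro j hj hne he
      exfalso
      change d j / d (j + 1) = d (n - 1) at he
      rw [dl, div_eq_one_iff_eq (hd _)] at he
      rcases Nat.lt_or_ge j 3 with h | h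
      · interval_cases j
        · exact hne rfl
        · exact hd21 (d1 ▸ he.symm)
        · rw [d2, dj 3 le_rfl (by omega)] at he
          field_simp at he
          exact hγ1 he.symm
      · by_cases h' : j + 2 = n
        · rw [show j + 1 = n - 1 by omega, dl, show j = n - 2 by omega, dt] at he
          exact ht1 he
        · rw [dj j h (by omega), dj (j + 1) (by omega) (by omega)] at he
          have := mul_left_cancel₀ ht0 he
          rcases Nat.mod_two_eq_zero_or_one (n - j) with h0 | h0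
          · rw [h0, show (n - (j + 1)) % 2 = 1 by omega, pow_zero, pow_one] at this
            exact hγ1 this.symm
          · rw [h0, show (n - (j + 1)) % 2 = 0 by omega, pow_zero, pow_one] at this
            exact hγ1 this
    · convert hB using 1
      rw [← hc0 B, Finset.sum_eq_add 1 (n - 2) (by omega)]
      · simp only [Datum.ll, if_true, show n - 2 ≠ 1 by omega, show n - 2 + 2 = n by omega, if_false,
          show n - 2 + 1 = n - 1 by omega]
        have e1 : cc n F 1 = 0 := by rw [cc_one (by omega), hpn, mul_zero]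
        show _ / d (0 + 1) - d (n - 1) * cc n F (0 + 1) + _ = _
        rw [show (0 : ℕ) + 1 = 1 from rfl, e1, mul_zero, sub_zero, show (1 : ℕ) + 1 = 2 from rfl, add_assoc]
        rfl
      · intro c _ hc
        simp [hc.1, show ¬ c + 2 = n by omega]
      · intro h; exact absurd (by simp; omega) h
      · intro h; exact absurd (by simp; omega) h
  have hu := D.cu_mem
  obtain ⟨s2, hs2, hZ2⟩ := Z_up hu hs hZ 2 (by omega)
  obtain ⟨sl, hsl, hZl⟩ := Z_up hu hs hZ (n - 2) (by omega)
  refine ⟨D, top_of_full (by omega) hu (full_down hu (by omega) (show 2 + 1 < n by omega)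
    (full_of_gen' (g := γ⁻¹) hs2 hZ2 (fun c hc => ?_) (by rw [orderOf_inv, hγ])) hsl hZl)⟩
  have hrow : bas (n - 1) ᵥ* D.hS.1 = d (n - 1) • bas (n - 1) := by
    refine Datum.row_last _ (by omega) fun j hj => ?_
    rw [bDatum_col hn hj]
    split_ifs <;> simp [bas, show n - 1 ≠ j by omega, show n - 1 ≠ 0 by omega]
  have h := Z_scale D.hS_mem (hd (n - 1)) (r := (γ : F)⁻¹) ?_ hrow hc
  · rw [dl, div_one] at h
    rwa [Units.val_inv_eq_inv_val]
  · rw [bDatum_col hn (show 2 + 1 < n by omega), if_neg (show ¬ (2 : ℕ) = 1 by omega),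
      if_neg (show ¬ 2 + 2 = n by omega), zero_smul, add_zero, show (2 : ℕ) + 1 = 3 from rfl, d2,
      dj 3 le_rfl (by omega)]
    congr 1
    field_simp

/-- The datum for degree four in characteristic two. -/
def fDatum (d : ℕ → F) (hd : ∀ j, d j ≠ 0) (hd0 : d 0 = 1) : Datum 4 F where
  d := d
  qv := fun j => bas j - (if j = 3 then (1 : F) else 0) • bas 2
  hd := hd
  hd0 := hd0
  hdiag i := by
    rw [Pi.sub_apply, Pi.smul_apply, bas_apply, bas_apply, if_pos rfl]
    split_ifs <;> first | (exfalso; omega) | simp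
  hup j i hji := by
    rw [Pi.sub_apply, Pi.smul_apply, bas_apply, bas_apply, if_neg (show ¬ i.val = j by omega)]
    split_ifs <;> first | (exfalso; omega) | simp
  h0 j i hj hi := by
    rw [Pi.sub_apply, Pi.smul_apply, bas_apply, bas_apply, if_neg (show ¬ i.val = j by omega)]
    split_ifs <;> first | (exfalso; omega) | simp

theorem any_four (hq : 4 ≤ Fintype.card F) (h2 : (2 : F) = 0) : ∃ D : Datum 4 F, D.grp = ⊤ := by
  classical
  obtain ⟨γ, hγ⟩ := IsCyclic.exists_ofOrder_eq_natCard (α := Fˣ)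
  rw [Nat.card_eq_fintype_card, Fintype.card_units] at hγ
  have hγ2 : (γ : F) * γ ≠ 1 := by simpa [pow_two] using gen_pow_ne_one hγ two_pos (by omega)
  set d : ℕ → F := fun j => if j % 2 = 1 then (γ : F) else 1 with hd'
  have hd : ∀ j, d j ≠ 0 := fun j => by simp only [hd']; split_ifs <;> simp
  have hd0 : d 0 = 1 := by simp [hd']
  have d1 : d 1 = γ := by simp [hd']
  have d2 : d 2 = 1 := by simp [hd']
  have d3 : d 3 = γ := by simp [hd']
  set D := fDatum d hd hd0 with hD
  set r : ℕ → F := fun j => if j = 1 then (γ : F) else (γ : F)⁻¹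
  set N : ℕ → F := fun j => if j = 2 then (1 : F) else 0
  have hcol : ∀ j, j + 1 < 4 → D.hS.1 *ᵥ bas j = r j • bas j + N j • bas 1 := by
    intro j hj
    refine Datum.h_eq _ ?_
    rw [mulVec_add, mulVec_smul, mulVec_smul, cm_bas hj, cm_bas (show 1 + 1 < 4 by omega), mulVec_add, mulVec_smul,
      mulVec_smul, Datum.gmat_bas _ hj, Datum.gmat_bas _ (show 1 + 1 < 4 by omega),
      Datum.gmat_bas _ (show j < 4 by omega), mulVec_smul]
    show r j • d (j + 1) • (bas (j + 1) - (if j + 1 = 3 then (1 : F) else 0) • bas 2) +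
      N j • d (1 + 1) • (bas (1 + 1) - (if 1 + 1 = 3 then (1 : F) else 0) • bas 2) =
      d j • cm 4 F *ᵥ (bas j - (if j = 3 then (1 : F) else 0) • bas 2)
    rw [if_neg (show ¬ j = 3 by omega), zero_smul, sub_zero, cm_bas hj]
    have : j < 3 := by omega
    interval_cases j <;> simp [r, N, hd0, d1, d2, d3, smul_smul]
  have hc : cc 4 F 1 = 0 ∧ cc 4 F 2 = 0 ∧ cc 4 F 3 = 0 := by
    refine ⟨?_, ?_, ?_⟩
    · rw [cc_one (by omega)]; linear_combination (2 * (-1 : F) ^ 4) * h2
    · simp [cc, Nat.choose]; linear_combination 3 * h2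
    · simp [cc, Nat.choose]; linear_combination 2 * h2
  have e1 := D.eqn (show 1 ≤ 1 from le_rfl) (show 1 < 4 by omega)
  have e2 := D.eqn (show 1 ≤ 2 by omega) (show 2 < 4 by omega)
  have e3 := D.eqn (show 1 ≤ 3 by omega) (show 3 < 4 by omega)
  simp [Fin.sum_univ_four, hD, fDatum, bas, hc.1, hc.2.1, hc.2.2, d3] at e1 e2 e3
  have k3 : D.kk 3 = -γ := by simp [hD, fDatum]; linear_combination e3
  have k2 : D.kk 2 = -γ := by rw [← k3]; simp [hD, fDatum]; linear_combination e2
  have k1 : D.kk 1 = 0 := by simp [hD, fDatum]; linear_combination e1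
  have l0 : D.ll 0 = 0 := by
    show D.kk 1 / d 1 - d 3 * cc 4 F 1 = 0
    rw [k1, hc.1]; ring
  have l1 : D.ll 1 = -γ := by
    show D.kk 2 / d 2 - d 3 * cc 4 F 2 = _
    rw [k2, d2, hc.2.1]; ring
  have l2 : D.ll 2 = -1 := by
    show D.kk 3 / d 3 - d 3 * cc 4 F 3 = _
    rw [k3, d3, hc.2.2, neg_div_self γ.ne_zero]; ring
  have hsub : (γ : F) - (γ : F)⁻¹ ≠ 0 := by
    intro e
    apply hγ2
    field_simp at e
    linear_combination e
  obtain ⟨s, hs, hZ⟩ : ∃ s : F, s ≠ 0 ∧ Z D.grp 1 s := by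
    refine seed D.hS_mem (show 1 + 1 < 4 by omega) (r := r) (N := N) (L := D.ll) (ρ := (γ : F)) γ.ne_zero
      (fun j _ => by simp only [r]; split_ifs <;> simp) (by simp [r]) (by simp [N]) hcol ?_ ?_ ?_
    · have := D.h_last (show 0 < 4 by omega)
      rwa [show D.d (4 - 1) = (γ : F) from d3] at this
    · intro j hj hne he
      exfalso
      simp only [r, if_neg hne] at he
      exact hsub (by rw [he, sub_self])
    · rw [Finset.sum_eq_single 2]
      · simp only [r, N, l1, l2, if_true, if_neg (show ¬ (2 : ℕ) = 1 by omega)]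
        intro e
        have e2 := congrArg (· * ((γ : F) - (γ : F)⁻¹)) e
        rw [add_mul, zero_mul, div_mul_cancel₀ _ hsub] at e2
        exact γ.ne_zero (by
          have : (γ : F) * γ = 0 := by field_simp at e2; linear_combination (-1 : F) * e2
          simpa using this)
      · intro i _ hi
        simp [N, hi]
      · intro h; exact absurd (by simp) h
  have hrow : bas (4 - 1) ᵥ* D.hS.1 = d (4 - 1) • bas (4 - 1) := by
    refine Datum.row_last _ (by omega) fun j hj => ?_
    rw [hcol j hj]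
    simp [bas, show (3 : ℕ) ≠ j by omega]
  have hrow0 : (bas 0 : Fin 4 → F) ᵥ* D.hS.1 = (γ : F)⁻¹ • bas 0 := by
    refine row_of_cols (show 0 < 4 by omega) _ fun j hj _ => ?_
    by_cases hj' : j + 1 < 4
    · rw [hcol j hj']
      have : j < 3 := by omega
      interval_cases j <;> simp [r, N, bas]
    · obtain rfl : j = 4 - 1 := by omega
      rw [D.h_last (by omega), Pi.add_apply, Finset.sum_apply, Finset.sum_eq_single 0]
      · simp [bas, l0]
      · intro i _ hi
        simp [bas, Ne.symm hi]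
      · intro h; exact absurd (by simp) h
  set c := (cc 4 F 0)⁻¹ * s
  have hc0 : c ≠ 0 := mul_ne_zero (inv_ne_zero cc_ne_zero) hs
  have hA2 : A D.grp 2 c := A_of_Z D.cu_mem (show 1 + 1 < 4 by omega) hZ
  have h3 := conj_mem D.hS_mem hA2 (q := (γ : F) • bas 0) (by
    rw [smul_vecMul, hrow0, smul_smul, mul_inv_cancel₀ γ.ne_zero, one_smul])
  rw [mulVec_smul, hcol 2 (by omega)] at h3
  have h4 := inT_smul_left h3
  have h5 : TVec.InT (D.grp.map SpecialLinearGroup.toGL) ((-c) • (bas 2 : Fin 4 → F)) (bas 0) := by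
    have := inT_smul_left (c := (-1 : F)) (L := D.grp.map SpecialLinearGroup.toGL) (z := c • bas 2) (a := bas 0)
      (by rw [neg_smul, one_smul]; exact inT_neg hA2)
    rwa [smul_smul, neg_one_mul] at this
  have h6 := inT_add_left h4 h5
  have hA1 : A D.grp 1 ((γ : F) * c) := by
    unfold A
    convert h6 using 1
    simp only [r, N, if_true, if_neg (show ¬ (2 : ℕ) = 1 by omega)]
    match_scalars <;> field_simp <;> ring
  have hZ0 := Z_of_A D.cu_mem (show 0 + 1 < 4 by omega) hA1
  have hg : orderOf (γ⁻¹ * γ⁻¹ : Fˣ) = Fintype.card F - 1 := by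
    rw [← pow_two, Nat.Coprime.orderOf_pow, orderOf_inv, hγ]
    rw [orderOf_inv, hγ, Nat.coprime_two_right]
    obtain ⟨p, hp⟩ := CharP.exists F
    haveI := hp
    obtain ⟨k, hpp, hcard⟩ := FiniteField.card F p
    have hp2 : p = 2 := by
      have : p ∣ 2 := (CharP.cast_eq_zero_iff F p 2).1 (by exact_mod_cast h2)
      exact (Nat.prime_dvd_prime_iff_eq hpp Nat.prime_two).1 this
    have hev : Even (Fintype.card F) := by
      rw [hcard, hp2]; exact Nat.even_pow.2 ⟨even_two, k.pos.ne'⟩
    exact Nat.Even.sub_odd (by omega) hev odd_one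
  refine ⟨D, top_of_full (by omega) D.cu_mem (full_of_gen' (g := γ⁻¹ * γ⁻¹)
    (mul_ne_zero cc_ne_zero (mul_ne_zero γ.ne_zero hc0)) hZ0 (fun x hx => ?_) hg)⟩
  have h := Z_scale D.hS_mem (hd (4 - 1)) (r := r 0) ?_ hrow hx
  · have e : r 0 / d (4 - 1) = ((γ⁻¹ * γ⁻¹ : Fˣ) : F) := by
      rw [show d (4 - 1) = (γ : F) from d3]
      simp [r, div_eq_mul_inv]
    rwa [e] at h
  · rw [hcol 0 (by omega)]
    simp [N]

end Cfsg.Lib.Linear.TwoReg
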