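import Cfsg.Agent.Lib.Linear.TwoReg.Patterns

/-!
# Two regular unipotent elements generating `SL_n`: the designs over the field with two elements
-/

set_option autoImplicit false
set_option linter.style.haveILetI false
set_option maxHeartbeats 1000000

namespace Cfsg.Lib.Linear.TwoReg

open Matrix Cfsg.Lib.Linear Cfsg.Lib.Linear.TVec Cfsg.Lib.Linear.AutPSL Cfsg.Lib.Linear.MinIndex
open Cfsg.Lib.Linear.RegUnipotentGen
open scoped MatrixGroups

variable {n : ℕ} {F : Type*} [Field F] [Fintype F]

theorem top_of_Z_zero (hq : (Fintype.card F).Prime) (hn : 2 ≤ n) (D : Datum n F) {s : F} (hs : s ≠ 0)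
    (h : Z D.grp 0 s) : D.grp = ⊤ :=
  top_of_full hn D.cu_mem (Z_all_of_prime hq hs h)

/-- One shift `k`: the square of the quotient is a transvection with parameter `L_k`. -/
theorem single_top (hq : (Fintype.card F).Prime) (h2 : (2 : F) = 0) {k : ℕ} (hk : 1 ≤ k) (hkn : k + 1 < n)
    (h : (qDatum (n := n) (fun _ => (1 : F)) (fun _ => one_ne_zero) rfl {k} (by simp; omega)).ll k ≠ 0) :
    (qDatum (n := n) (fun _ => (1 : F)) (fun _ => one_ne_zero) rfl {k} (by simp; omega)).grp = ⊤ := by
  classical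
  set D := qDatum (n := n) (fun _ => (1 : F)) (fun _ => one_ne_zero) rfl {k} (by simp; omega) with hD
  let X : ℕ → Fin n → F := fun j => if j + 1 < n then (if j = k then (1 : F) else 0) • bas 0
    else ∑ i ∈ Finset.range (n - 1), D.ll i • bas i
  have hcol : ∀ j, j + 1 < n → D.hS.1 *ᵥ bas j = bas j + (if j = k then (1 : F) else 0) • bas 0 := by
    intro j hj
    rw [hD, qDatum_col hj]
    simp
  refine top_of_Z_zero hq (by omega) D h (seed_two D.hS_mem (by omega) h2 X ?_ ?_ ?_)
  · intro j hj
    by_cases hj' : j + 1 < n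
    · simp only [X, if_pos hj']
      exact hcol j hj'
    · obtain rfl : j = n - 1 := by omega
      simp only [X, if_neg hj']
      rw [D.h_last (by omega)]
      show (1 : F) • _ + _ = _
      rw [one_smul]
  · intro j hj
    simp only [X, if_pos hj]
    rw [mulVec_smul, hcol 0 (by omega), if_neg (show ¬ 0 = k by omega), zero_smul, add_zero]
  · simp only [X, if_neg (show ¬ n - 1 + 1 < n by omega)]
    rw [mulVec_sum]
    simp only [mulVec_smul]
    rw [Finset.sum_congr rfl fun i hi => by rw [hcol i (by have := Finset.mem_range.1 hi; omega), smul_add],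
      Finset.sum_add_distrib, Finset.sum_eq_single k (f := fun i => D.ll i • (if i = k then (1 : F) else 0) • bas 0)]
    · rw [if_pos rfl, one_smul]
    · intro i _ hi
      rw [if_neg hi, zero_smul, smul_zero]
    · intro h'
      exact absurd (Finset.mem_range.2 (by omega)) h'

theorem two_odd (hq : (Fintype.card F).Prime) (h2 : (2 : F) = 0) (hn : 5 ≤ n) (hodd : Odd n) :
    ∃ D : Datum n F, D.grp = ⊤ := by
  obtain ⟨k, rfl⟩ := hodd
  refine ⟨_, single_top (k := k) hq h2 (by omega) (by omega) ?_⟩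
  have h := qDatum_eqn (n := 2 * k + 1) (d := fun _ => (1 : F)) (hd := fun _ => one_ne_zero) (hd0 := rfl) (S := {k})
    (hS := by simp; omega) (by simp; omega) (m := k + 1) (by omega) (by omega)
  rw [Finset.sum_singleton, if_pos (by simp; omega)] at h
  rw [Datum.ll]
  have e : (qDatum (n := 2 * k + 1) (fun _ => (1 : F)) (fun _ => one_ne_zero) rfl {k} (by simp; omega)).kk (k + 1 + k) = 0 :=
    dif_neg fun hh => by omega
  rw [e, sub_zero, one_mul] at h
  rw [h]
  show (_ : F) / 1 - 1 * _ ≠ 0
  simp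

theorem two_four (hq : (Fintype.card F).Prime) (h2 : (2 : F) = 0) : ∃ D : Datum 4 F, D.grp = ⊤ := by
  refine ⟨_, single_top (k := 1) hq h2 le_rfl (by omega) ?_⟩
  set D := qDatum (n := 4) (fun _ => (1 : F)) (fun _ => one_ne_zero) rfl {1} (by simp)
  have h3 := qDatum_eqn (n := 4) (d := fun _ => (1 : F)) (hd := fun _ => one_ne_zero) (hd0 := rfl) (S := {1})
    (hS := by simp) (by simp) (m := 3) (by omega) (by omega)
  have h2' := qDatum_eqn (n := 4) (d := fun _ => (1 : F)) (hd := fun _ => one_ne_zero) (hd0 := rfl) (S := {1})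
    (hS := by simp) (by simp) (m := 2) (by omega) (by omega)
  have e : D.kk (3 + 1) = 0 := dif_neg fun hh => by omega
  rw [Finset.sum_singleton] at h3 h2'
  rw [e] at h3
  simp at h3 h2'
  have h3' : D.kk 3 = cc 4 F 3 - 1 := h3
  have h22 : D.kk 2 - D.kk 3 = cc 4 F 2 := h2'
  rw [Datum.ll]
  show D.kk 2 / 1 - 1 * cc 4 F 2 ≠ 0
  rw [div_one, one_mul, show D.kk 2 - cc 4 F 2 = D.kk 3 by linear_combination h22, h3']
  have e4 : cc 4 F 3 - 1 = 1 + 2 := by
    simp [cc]
    norm_num [Nat.choose]
  rw [e4, h2, add_zero]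
  exact one_ne_zero

/-- The pattern for even degree. -/
def qE (n : ℕ) (j : ℕ) : Fin n → F :=
  bas j - (if 3 ≤ j then (1 : F) else 0) • bas (j - 2) - (if j + 1 = n then (1 : F) else 0) • bas 2

omit [Fintype F] in
theorem qE_apply (j : ℕ) (i : Fin n) : (qE n j : Fin n → F) i = (if i.val = j then (1 : F) else 0) -
    (if 3 ≤ j ∧ i.val + 2 = j then (1 : F) else 0) - (if j + 1 = n ∧ i.val = 2 then (1 : F) else 0) := by
  simp only [qE, Pi.sub_apply, Pi.smul_apply, bas_apply, smul_eq_mul]
  congr 1
  · congr 1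
    by_cases h : 3 ≤ j
    · rw [if_pos h, one_mul]
      exact if_congr ⟨fun e => ⟨h, by omega⟩, fun e => by omega⟩ rfl rfl
    · rw [if_neg h, zero_mul, if_neg fun e => h e.1]
  · by_cases h : j + 1 = n
    · by_cases h' : i.val = 2
      · rw [if_pos h, if_pos h', mul_one, if_pos ⟨h, h'⟩]
      · rw [if_neg h', mul_zero, if_neg fun e => h' e.2]
    · rw [if_neg h, zero_mul, if_neg fun e => h e.1]

/-- The datum for even degree. -/
def eDatum (hn : 6 ≤ n) : Datum n F where
  d := fun _ => 1
  qv := qE n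
  hd := fun _ => one_ne_zero
  hd0 := rfl
  hdiag i := by
    rw [qE_apply, if_pos rfl, if_neg (by omega), if_neg (by omega), sub_zero, sub_zero]
  hup j i hji := by
    rw [qE_apply, if_neg (by omega), if_neg (by omega), if_neg (by omega), sub_zero, sub_zero]
  h0 j i hj hi := by
    rw [qE_apply, if_neg (by omega), if_neg (by omega), if_neg (by omega), sub_zero, sub_zero]

theorem eDatum_col (hn : 6 ≤ n) {j : ℕ} (hj : j + 1 < n) :
    (eDatum (F := F) hn).hS.1 *ᵥ bas j =
      bas j + ((if j = 2 then (1 : F) else 0) • bas 0 + (if j + 2 = n then (1 : F) else 0) • bas 1) := by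
  refine Datum.h_eq _ ?_
  rw [mulVec_add, mulVec_add, mulVec_add, mulVec_smul, mulVec_smul, cm_bas hj, cm_bas (show 0 + 1 < n by omega),
    cm_bas (show 1 + 1 < n by omega), mulVec_add, mulVec_smul, mulVec_smul, Datum.gmat_bas _ hj,
    Datum.gmat_bas _ (show 0 + 1 < n by omega), Datum.gmat_bas _ (show 1 + 1 < n by omega),
    Datum.gmat_bas _ (show j < n by omega), mulVec_smul]
  show (1 : F) • qE n (j + 1) + ((if j = 2 then (1 : F) else 0) • (1 : F) • qE n 1 +
    (if j + 2 = n then (1 : F) else 0) • (1 : F) • qE n (1 + 1)) = (1 : F) • cm n F *ᵥ qE n j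
  simp only [one_smul, qE, mulVec_sub, mulVec_smul, cm_bas hj]
  rw [if_neg (show ¬ 3 ≤ 1 by omega), if_neg (show ¬ 1 + 1 = n by omega), if_neg (show ¬ j + 1 = n by omega),
    if_neg (show ¬ 3 ≤ 1 + 1 by omega), if_neg (show ¬ 1 + 1 + 1 = n by omega)]
  rcases Nat.lt_or_ge j 3 with h3 | h3
  · interval_cases j <;>
      simp [show ¬ 4 = n by omega, show ¬ 3 = n by omega, show ¬ 2 = n by omega, show ¬ 1 = n by omega]
  · rw [if_pos (show 3 ≤ j + 1 by omega), if_pos h3, cm_bas (show j - 2 + 1 < n by omega),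
      show j - 2 + 1 = j - 1 by omega, show j + 1 - 2 = j - 1 by omega, if_neg (show ¬ j = 2 by omega)]
    by_cases h : j + 2 = n
    · rw [if_pos (show j + 1 + 1 = n by omega)]
      module
    · rw [if_neg (show ¬ j + 1 + 1 = n by omega)]
      module

theorem eDatum_eqn (hn : 6 ≤ n) {m : ℕ} (hm : 1 ≤ m) (hm2 : m ≠ 2) (hmn : m < n) :
    (eDatum (F := F) hn).kk m - (eDatum (F := F) hn).kk (m + 2) =
      cc n F m - (if m + 2 = n then 1 else 0) - (if m = 3 then 1 else 0) := by
  set D := eDatum (F := F) hn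
  have h := D.eqn hm hmn
  have eR : D.qv (n - 1) ⟨m - 1, by omega⟩ = -(if m + 2 = n then 1 else 0) - (if m = 3 then 1 else 0) := by
    show qE n (n - 1) _ = _
    rw [qE_apply, if_neg (show m - 1 ≠ n - 1 by omega), zero_sub]
    congr 1
    · congr 1
      exact if_congr ⟨fun h => by have := h.2; simp only at this; omega,
        fun h => ⟨by omega, by show m - 1 + 2 = n - 1; omega⟩⟩ rfl rfl
    · exact if_congr ⟨fun h => by have := h.2; simp only at this; omega,
        fun h => ⟨by omega, by show m - 1 = 2; omega⟩⟩ rfl rfl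
  have eL : ∑ j : Fin n, D.kk j.val * D.qv j.val ⟨m, hmn⟩ = D.kk m - D.kk (m + 2) := by
    show ∑ j : Fin n, D.kk j.val * qE n j.val ⟨m, hmn⟩ = _
    simp only [qE_apply, mul_sub, Finset.sum_sub_distrib, mul_ite, mul_one, mul_zero]
    rw [Finset.sum_eq_zero (f := fun x : Fin n => if x.val + 1 = n ∧ m = 2 then D.kk x.val else 0)
      (fun x _ => if_neg fun e => hm2 e.2), sub_zero]
    congr 1
    · rw [Finset.sum_eq_single ⟨m, hmn⟩]
      · simp
      · intro b _ hb
        rw [if_neg fun e => hb (Fin.ext e.symm)]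
      · simp
    · by_cases h : m + 2 < n
      · rw [Finset.sum_eq_single ⟨m + 2, h⟩]
        · rw [if_pos ⟨by show 3 ≤ m + 2; omega, rfl⟩]
        · intro b _ hb
          rw [if_neg fun e => hb (Fin.ext e.2.symm)]
        · simp
      · have e0 : D.kk (m + 2) = 0 := dif_neg fun hh => h hh.2
        rw [e0, Finset.sum_eq_zero]
        intro b _
        have := b.isLt
        rw [if_neg fun e => by omega]
  rw [eL, eR] at h
  rw [h]
  show (1 : F) * _ = _
  ring

omit [Fintype F] in
theorem cc_odd_zero (h2 : (2 : F) = 0) (hn : Even n) {m : ℕ} (hm : Odd m) : cc n F m = 0 := by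
  obtain ⟨k, rfl⟩ := hn
  obtain ⟨l, rfl⟩ := hm
  rw [cc, neg_eq_zero]
  refine mul_eq_zero.2 (Or.inr ?_)
  rcases Nat.eq_zero_or_pos k with rfl | hk
  · rw [Nat.choose_eq_zero_of_lt (by omega), Nat.cast_zero]
  have h : (k + k) * ((k + k - 1).choose (2 * l)) = (k + k).choose (2 * l + 1) * (2 * l + 1) := by
    have := Nat.add_one_mul_choose_eq (k + k - 1) (2 * l)
    rwa [show k + k - 1 + 1 = k + k by omega] at this
  have h' := congrArg (fun x : ℕ => (x : F)) h
  push_cast at h'
  rw [show (k : F) + k = 0 by rw [← two_mul, h2, zero_mul], h2] at h'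
  simpa using h'.symm

theorem two_even (hq : (Fintype.card F).Prime) (h2 : (2 : F) = 0) (hn : 6 ≤ n) (heven : Even n) :
    ∃ D : Datum n F, D.grp = ⊤ := by
  classical
  set D := eDatum (F := F) hn with hD
  have hc : ∀ m, Odd m → cc n F m = 0 := fun m hm => cc_odd_zero h2 heven hm
  obtain ⟨t, rfl⟩ := heven
  have hkk : ∀ k, k + 3 ≤ t → D.kk (2 * (t - k) - 1) = 0 := by
    intro k
    induction k with
    | zero =>
      intro hk
      have h := eDatum_eqn (F := F) hn (m := 2 * t - 1) (by omega) (by omega) (by omega)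
      have e0 : D.kk (2 * t - 1 + 2) = 0 := dif_neg fun hh => by omega
      rw [e0, if_neg (by omega), if_neg (by omega), hc _ ⟨t - 1, by omega⟩] at h
      rw [Nat.sub_zero]
      linear_combination h
    | succ k ih =>
      intro hk
      have h := eDatum_eqn (F := F) hn (m := 2 * (t - (k + 1)) - 1) (by omega) (by omega) (by omega)
      rw [show 2 * (t - (k + 1)) - 1 + 2 = 2 * (t - k) - 1 by omega, ih (by omega), if_neg (by omega),
        if_neg (by omega), hc _ ⟨t - (k + 1) - 1, by omega⟩] at h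
      linear_combination h
  have hk3 : D.kk 3 = -1 := by
    have h := eDatum_eqn (F := F) hn (m := 3) (by omega) (by omega) (by omega)
    rw [if_neg (by omega), if_pos rfl, hc 3 ⟨1, rfl⟩] at h
    have e5 : D.kk (3 + 2) = 0 := by
      by_cases h5 : 3 ≤ t
      · have := hkk (t - 3) (by omega)
        rwa [show 2 * (t - (t - 3)) - 1 = 3 + 2 by omega] at this
      · omega
    rw [e5] at h
    linear_combination h
  have hl2 : D.ll 2 = -1 := by
    show D.kk 3 / 1 - 1 * cc _ F 3 = -1
    rw [hk3, hc 3 ⟨1, rfl⟩]; ring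
  have hl' : D.ll (t + t - 2) = 0 := by
    show D.kk (t + t - 2 + 1) / 1 - 1 * cc _ F (t + t - 2 + 1) = 0
    have h := hkk 0 (by omega)
    rw [show 2 * (t - 0) - 1 = t + t - 2 + 1 by omega] at h
    rw [h, hc _ ⟨t - 1, by omega⟩]; ring
  let X : ℕ → Fin (t + t) → F := fun j =>
    if j + 1 < t + t then (if j = 2 then (1 : F) else 0) • bas 0 + (if j + 2 = t + t then (1 : F) else 0) • bas 1
    else ∑ i ∈ Finset.range (t + t - 1), D.ll i • bas i
  refine ⟨D, top_of_Z_zero hq (by omega) D (s := (-1 : F)) (by simp) (seed_two D.hS_mem (by omega) h2 X ?_ ?_ ?_)⟩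
  · intro j hj
    by_cases hj' : j + 1 < t + t
    · simp only [X, if_pos hj']
      exact eDatum_col hn hj'
    · obtain rfl : j = t + t - 1 := by omega
      simp only [X, if_neg hj']
      rw [D.h_last (by omega)]
      show (1 : F) • _ + _ = _
      rw [one_smul]
  · intro j hj
    simp only [X, if_pos hj]
    rw [mulVec_add, mulVec_smul, mulVec_smul, hD, eDatum_col hn (show 0 + 1 < t + t by omega),
      eDatum_col hn (show 1 + 1 < t + t by omega)]
    simp [show ¬ 2 = t + t by omega, show ¬ 3 = t + t by omega]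
  · simp only [X, if_neg (show ¬ t + t - 1 + 1 < t + t by omega)]
    rw [mulVec_sum]
    simp only [mulVec_smul]
    rw [Finset.sum_congr rfl fun i hi => by
        rw [hD, eDatum_col hn (show i + 1 < t + t by have := Finset.mem_range.1 hi; omega), smul_add],
      Finset.sum_add_distrib]
    congr 1
    rw [Finset.sum_eq_single 2]
    · rw [if_pos rfl, if_neg (show ¬ 2 + 2 = t + t by omega), one_smul, zero_smul, add_zero, ← hD, hl2]
    · intro i _ hi
      by_cases h : i + 2 = t + t
      · rw [← hD, show i = t + t - 2 by omega, hl', zero_smul]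
      · rw [if_neg hi, if_neg h, zero_smul, zero_smul, add_zero, smul_zero]
    · intro h'
      exact absurd (Finset.mem_range.2 (by omega)) h'

end Cfsg.Lib.Linear.TwoReg
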