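import Cfsg.Agent.Lib.Linear.TwoReg.Core

/-!
# Two regular unipotent elements generating `SL_n`: the conjugating matrices and the transvection powers
-/

set_option autoImplicit false
set_option linter.style.haveILetI false

namespace Cfsg.Lib.Linear.TwoReg

open Matrix Cfsg.Lib.Linear Cfsg.Lib.Linear.TVec Cfsg.Lib.Linear.AutPSL Cfsg.Lib.Linear.MinIndex
open Cfsg.Lib.Linear.RegUnipotentGen
open scoped MatrixGroups

variable {n : ℕ} {F : Type*} [Field F] [Fintype F]

/-- A triangular change of basis `e_j ↦ d_j • q_j`. -/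
structure Datum (n : ℕ) (F : Type*) [Field F] where
  /-- The diagonal. -/
  d : ℕ → F
  /-- The unitriangular part. -/
  qv : ℕ → Fin n → F
  hd : ∀ j, d j ≠ 0
  hd0 : d 0 = 1
  hdiag : ∀ i : Fin n, qv i.val i = 1
  hup : ∀ (j : ℕ) (i : Fin n), j < i.val → qv j i = 0
  h0 : ∀ (j : ℕ) (i : Fin n), 1 ≤ j → i.val = 0 → qv j i = 0

namespace Datum

variable (D : Datum n F)

omit [Fintype F] in
theorem qv_zero (hn : 0 < n) : D.qv 0 = bas 0 := by
  funext i
  rcases Nat.eq_zero_or_pos i.val with h | h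
  · have := D.hdiag i
    rw [h] at this
    simp [this, bas, h]
  · rw [D.hup 0 i h]
    simp [bas, h.ne']

/-- The matrix. -/
def gmat : Matrix (Fin n) (Fin n) F := Matrix.of fun i j => D.d j.val * D.qv j.val i

omit [Fintype F] in
theorem gmat_bas {k : ℕ} (hk : k < n) : D.gmat *ᵥ bas k = D.d k • D.qv k := by
  funext i
  rw [mulVec_bas _ hk]
  rfl

omit [Fintype F] in
theorem det_gmat : D.gmat.det = ∏ i : Fin n, D.d i.val := by
  rw [Matrix.det_of_upperTriangular]
  · exact Finset.prod_congr rfl fun i _ => by simp [gmat, D.hdiag i]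
  · intro i j hij
    have h : j.val < i.val := hij
    simp [gmat, D.hup j.val i h]

/-- The matrix as an element of `GL`. -/
noncomputable def gl : GL (Fin n) F :=
  Matrix.GeneralLinearGroup.mkOfDetNeZero D.gmat
    (by rw [det_gmat]; exact Finset.prod_ne_zero_iff.2 fun i _ => D.hd i.val)

omit [Fintype F] in
theorem gl_val : (D.gl : Matrix (Fin n) (Fin n) F) = D.gmat := rfl

/-- The second generator. -/
noncomputable def vS : SpecialLinearGroup (Fin n) F :=
  ⟨((D.gl)⁻¹ : GL (Fin n) F).1 * cm n F * D.gl.1, by rw [Matrix.det_units_conj']; exact det_cm⟩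

/-- The quotient of the two generators. -/
noncomputable def hS : SpecialLinearGroup (Fin n) F := (cu n F)⁻¹ * D.vS

/-- The group generated by the two elements. -/
noncomputable def grp : Subgroup (SpecialLinearGroup (Fin n) F) :=
  Subgroup.closure ({cu n F, D.vS} : Set (SpecialLinearGroup (Fin n) F))

theorem cu_mem : cu n F ∈ D.grp := Subgroup.subset_closure (by simp)

theorem hS_mem : D.hS ∈ D.grp :=
  D.grp.mul_mem (D.grp.inv_mem D.cu_mem) (Subgroup.subset_closure (by simp))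

theorem gmat_h (x : Fin n → F) : D.gmat *ᵥ (cm n F *ᵥ (D.hS.1 *ᵥ x)) = cm n F *ᵥ (D.gmat *ᵥ x) := by
  have e : cm n F * D.hS.1 = D.vS.1 := by
    have := congrArg Subtype.val (mul_inv_cancel_left (cu n F) D.vS)
    exact this
  rw [mulVec_mulVec x (cm n F), e, mulVec_mulVec x D.gmat, mulVec_mulVec x (cm n F)]
  show (D.gl.1 * (((D.gl)⁻¹ : GL (Fin n) F).1 * cm n F * D.gl.1)) *ᵥ x = _
  rw [← mul_assoc, ← mul_assoc, Units.mul_inv, one_mul]
  rfl

theorem h_eq {x X : Fin n → F} (e : D.gmat *ᵥ (cm n F *ᵥ X) = cm n F *ᵥ (D.gmat *ᵥ x)) : D.hS.1 *ᵥ x = X := by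
  rw [← D.gmat_h x] at e
  have h1 := congrArg (((D.gl)⁻¹ : GL (Fin n) F).1 *ᵥ ·) e
  simp only [mulVec_mulVec, ← D.gl_val] at h1
  simp only [← mul_assoc, Units.inv_mul, one_mul] at h1
  have h2 := congrArg ((cu n F)⁻¹.1 *ᵥ ·) h1
  simp only [← mulVec_mulVec] at h2
  have e2 : ∀ y, (cu n F)⁻¹.1 *ᵥ (cm n F *ᵥ y) = y := inv_mulVec (cu n F)
  rw [e2, e2] at h2
  exact h2.symm

/-- The last column of the quotient. -/
noncomputable def lastCol : Fin n → F := D.hS.1 *ᵥ bas (n - 1)

/-- The unknowns of the last column in convenient form. -/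
noncomputable def kk (j : ℕ) : F :=
  if h : 1 ≤ j ∧ j < n then (D.lastCol ⟨j - 1, by omega⟩ + D.d (n - 1) * cc n F j) * D.d j else 0

omit [Fintype F] in
theorem gmat_mulVec (x : Fin n → F) (m : Fin n) :
    (D.gmat *ᵥ x) m = ∑ j : Fin n, D.d j.val * D.qv j.val m * x j := by
  rfl

theorem lastCol_last (hn : 0 < n) : D.lastCol ⟨n - 1, by omega⟩ = D.d (n - 1) := by
  have h1 := congrFun (D.gmat_h (bas (n - 1))) ⟨0, hn⟩
  rw [D.gmat_mulVec, Finset.sum_eq_single ⟨0, hn⟩, D.gmat_bas (show n - 1 < n by omega), cm_apply hn, cm_apply hn,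
    dif_neg (by simp), dif_neg (by simp)] at h1
  · have hq : D.qv (n - 1) ⟨n - 1, by omega⟩ = 1 := D.hdiag ⟨n - 1, by omega⟩
    have hq0 : D.qv 0 ⟨0, hn⟩ = 1 := D.hdiag ⟨0, hn⟩
    rw [Pi.smul_apply, smul_eq_mul, hq, mul_one, zero_add, zero_add] at h1
    simp only [hq0, D.hd0, one_mul] at h1
    exact mul_right_cancel₀ cc_ne_zero h1
  · intro j _ hj
    rw [D.h0 j.val _ (Nat.one_le_iff_ne_zero.2 fun h => hj (Fin.ext h)) rfl, mul_zero, zero_mul]
  · simp

/-- The equations for the last column. -/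
theorem eqn {m : ℕ} (hm : 1 ≤ m) (hmn : m < n) :
    ∑ j : Fin n, D.kk j.val * D.qv j.val ⟨m, hmn⟩ =
      D.d (n - 1) * (D.qv (n - 1) ⟨m - 1, by omega⟩ + cc n F m) := by
  have h1 := congrFun (D.gmat_h (bas (n - 1))) ⟨m, hmn⟩
  rw [D.gmat_mulVec, D.gmat_bas (show n - 1 < n by omega), cm_apply (show 0 < n by omega),
    dif_pos (show 0 < (⟨m, hmn⟩ : Fin n).val from hm)] at h1
  have hq : D.qv (n - 1) ⟨n - 1, by omega⟩ = 1 := D.hdiag ⟨n - 1, by omega⟩
  rw [Pi.smul_apply, Pi.smul_apply, smul_eq_mul, smul_eq_mul, hq] at h1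
  rw [show D.d (n - 1) * (D.qv (n - 1) ⟨m - 1, by omega⟩ + cc n F m) =
    D.d (n - 1) * D.qv (n - 1) ⟨m - 1, by omega⟩ + D.d (n - 1) * 1 * cc n F m by ring, ← h1]
  refine Finset.sum_congr rfl fun j _ => ?_
  rcases Nat.eq_zero_or_pos j.val with hj | hj
  · rw [show D.qv j.val ⟨m, hmn⟩ = 0 by rw [hj]; exact D.hup 0 _ hm, mul_zero, mul_zero, zero_mul]
  · rw [cm_apply (show 0 < n by omega), dif_pos hj, kk, dif_pos ⟨hj, j.isLt⟩]
    have := D.lastCol_last (show 0 < n by omega)
    simp only [lastCol] at this ⊢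
    rw [this]
    ring

/-- The coefficients of the last column. -/
noncomputable def ll (i : ℕ) : F := D.kk (i + 1) / D.d (i + 1) - D.d (n - 1) * cc n F (i + 1)

theorem h_last (hn : 0 < n) :
    D.hS.1 *ᵥ bas (n - 1) = D.d (n - 1) • bas (n - 1) + ∑ i ∈ Finset.range (n - 1), D.ll i • bas i := by
  funext r
  rw [Pi.add_apply, Finset.sum_apply, Pi.smul_apply]
  by_cases hr : r.val + 1 < n
  · rw [Finset.sum_eq_single r.val]
    · simp only [bas_apply, if_true, Pi.smul_apply, smul_eq_mul, mul_one]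
      rw [if_neg (show ¬ r.val = n - 1 by omega), mul_zero, zero_add, ll, kk,
        dif_pos ⟨Nat.le_add_left 1 r.val, hr⟩, mul_div_assoc, div_self (D.hd _), mul_one]
      simp [lastCol]
    · intro i _ hi
      simp [bas, Ne.symm hi]
    · intro h
      exact absurd (Finset.mem_range.2 (by omega)) h
  · rw [Finset.sum_eq_zero]
    · have hr' : r = ⟨n - 1, by omega⟩ := Fin.ext (show r.val = n - 1 by omega)
      rw [hr']
      have := D.lastCol_last hn
      simp only [lastCol] at this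
      simp [this, bas]
    · intro i hi
      have := Finset.mem_range.1 hi
      simp [bas, show r.val ≠ i by omega]

end Datum

omit [Fintype F] in
theorem coe_pow_succ_mulVec (x : SpecialLinearGroup (Fin n) F) (k : ℕ) (y : Fin n → F) :
    (x ^ (k + 1)).1 *ᵥ y = x.1 *ᵥ ((x ^ k).1 *ᵥ y) := by
  rw [pow_succ', mulVec_mulVec]
  rfl

/-- A power of the quotient is a transvection. -/
theorem seed {P : Subgroup (SpecialLinearGroup (Fin n) F)} {x : SpecialLinearGroup (Fin n) F} (hx : x ∈ P)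
    {j0 : ℕ} (hj0 : j0 + 1 < n) {r N L : ℕ → F} {ρ : F} (hρ : ρ ≠ 0) (hr : ∀ j, j + 1 < n → r j ≠ 0)
    (hr0 : r j0 = ρ) (hN0 : N j0 = 0)
    (hcol : ∀ j, j + 1 < n → x.1 *ᵥ bas j = r j • bas j + N j • bas j0)
    (hlast : x.1 *ᵥ bas (n - 1) = ρ • bas (n - 1) + ∑ i ∈ Finset.range (n - 1), L i • bas i)
    (hdeg : ∀ j, j + 1 < n → j ≠ j0 → r j = ρ → L j = 0 ∧ N j = 0)
    (hκ : L j0 + ∑ i ∈ (Finset.range (n - 1)).erase j0, L i * N i / (ρ - r i) ≠ 0) :
    ∃ s : F, s ≠ 0 ∧ Z P j0 s := by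
  classical
  set κ := L j0 + ∑ i ∈ (Finset.range (n - 1)).erase j0, L i * N i / (ρ - r i) with hκdef
  set q := Fintype.card F - 1
  have hq : ∀ y : F, y ≠ 0 → y ^ q = 1 := fun y hy => FiniteField.pow_card_sub_one_eq_one y hy
  set b : Fin n → F := bas j0 with hb
  have hxb : x.1 *ᵥ b = ρ • b := by
    rw [hb, hcol j0 hj0, hN0, hr0, zero_smul, add_zero]
  let e : ℕ → Fin n → F := fun j => bas j + (N j / (r j - ρ)) • b
  have he : ∀ j, j + 1 < n → x.1 *ᵥ e j = r j • e j := by
    intro j hj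
    simp only [e]
    rw [mulVec_add, mulVec_smul, hxb, hcol j hj, add_assoc, smul_smul, ← add_smul, smul_add, smul_smul]
    congr 2
    by_cases h : r j = ρ
    · have hN : N j = 0 := by
        by_cases hjj : j = j0
        · rw [hjj, hN0]
        · exact (hdeg j hj hjj h).2
      simp [hN]
    · have := sub_ne_zero.2 h
      field_simp
      ring
  set S := (Finset.range (n - 1)).erase j0 with hS
  set w : Fin n → F := bas (n - 1) + ∑ i ∈ S, (L i / (ρ - r i)) • e i with hw
  have hxw : x.1 *ᵥ w = ρ • w + κ • b := by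
    rw [hw, mulVec_add, mulVec_sum, hlast, smul_add, Finset.smul_sum, add_assoc (ρ • bas (n - 1)), add_assoc]
    congr 1
    rw [← Finset.add_sum_erase _ _ (Finset.mem_range.2 (show j0 < n - 1 by omega)), ← hb, hκdef, ← hS, add_smul,
      Finset.sum_smul, add_comm (∑ i ∈ S, ρ • _) _, add_assoc, add_assoc]
    congr 1
    rw [← Finset.sum_add_distrib, ← Finset.sum_add_distrib]
    refine Finset.sum_congr rfl fun i hi => ?_
    obtain ⟨hne, hin⟩ := Finset.mem_erase.1 hi
    have hin' : i + 1 < n := by have := Finset.mem_range.1 hin; omega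
    rw [mulVec_smul, he i hin']
    simp only [e]
    by_cases h : r i = ρ
    · obtain ⟨h1, h2⟩ := hdeg i hin' hne h
      simp [h1, h2]
    · have h1 := sub_ne_zero.2 h
      have h2 := sub_ne_zero.2 (Ne.symm h)
      match_scalars
      · field_simp; ring
      · field_simp; ring
  have hpb : ∀ k : ℕ, (x ^ k).1 *ᵥ b = ρ ^ k • b := by
    intro k
    induction k with
    | zero => simp
    | succ k ih =>
      rw [coe_pow_succ_mulVec, ih, mulVec_smul, hxb, smul_smul, pow_succ]
  have hpe : ∀ (k j : ℕ), j + 1 < n → (x ^ k).1 *ᵥ e j = r j ^ k • e j := by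
    intro k
    induction k with
    | zero => intro j _; simp
    | succ k ih =>
      intro j hj
      rw [coe_pow_succ_mulVec, ih j hj, mulVec_smul, he j hj, smul_smul,
        pow_succ]
  have hpw : ∀ k : ℕ, (x ^ k).1 *ᵥ w = ρ ^ k • w + ((k : F) * ρ ^ k * ρ⁻¹ * κ) • b := by
    intro k
    induction k with
    | zero => simp
    | succ k ih =>
      rw [coe_pow_succ_mulVec, ih, mulVec_add, mulVec_smul, mulVec_smul, hxw, hxb]
      match_scalars
      all_goals (rw [pow_succ]; field_simp; try ring)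
  have hfix : ∀ j, j + 1 < n → (x ^ q).1 *ᵥ bas j = bas j := by
    intro j hj
    have h1 := hpe q j hj
    rw [hq _ (hr j hj), one_smul] at h1
    simp only [e] at h1
    rw [mulVec_add, mulVec_smul, hpb, hq _ hρ, one_smul] at h1
    exact add_right_cancel h1
  set s := (q : F) * ρ⁻¹ * κ with hs
  have hlastq : (x ^ q).1 *ᵥ bas (n - 1) = bas (n - 1) + s • b := by
    have h1 := hpw q
    rw [hq _ hρ, one_smul, mul_one] at h1
    rw [hw, mulVec_add, mulVec_sum] at h1
    have e2 : ∑ i ∈ S, (x ^ q).1 *ᵥ ((L i / (ρ - r i)) • e i) = ∑ i ∈ S, (L i / (ρ - r i)) • e i := by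
      refine Finset.sum_congr rfl fun i hi => ?_
      have hin : i + 1 < n := by have := Finset.mem_range.1 (Finset.mem_erase.1 hi).2; omega
      rw [mulVec_smul, hpe q i hin, hq _ (hr i hin), one_smul]
    rw [e2, add_right_comm] at h1
    exact add_right_cancel h1
  refine ⟨s, ?_, ?_⟩
  · have hqF : (q : F) = -1 := by
      simp only [q]
      rw [Nat.cast_sub Fintype.card_pos, Nat.cast_card_eq_zero, zero_sub, Nat.cast_one]
    rw [hs, hqF]
    exact mul_ne_zero (mul_ne_zero (neg_ne_zero.2 one_ne_zero) (inv_ne_zero hρ)) hκ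
  · have hperp : (bas (n - 1) : Fin n → F) ⬝ᵥ (s • bas j0) = 0 := by
      rw [dotProduct_smul, last_dot_bas hj0, smul_zero]
    refine inT_map_toGL.2 ⟨hperp, ?_⟩
    convert P.pow_mem hx q using 1
    refine Subtype.ext (ext_bas fun k hk => ?_)
    rw [tau_val hperp, tvMat_mulVec, dot_bas _ hk]
    by_cases h : k + 1 < n
    · rw [hfix k h]
      simp [bas, show k ≠ n - 1 by omega]
    · obtain rfl : k = n - 1 := by omega
      rw [hlastq]
      simp [bas, hb]

/-- The square of a unipotent quotient is a transvection in characteristic two. -/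
theorem seed_two {P : Subgroup (SpecialLinearGroup (Fin n) F)} {x : SpecialLinearGroup (Fin n) F} (hx : x ∈ P)
    (hn : 2 ≤ n) (h2 : (2 : F) = 0) (X : ℕ → Fin n → F) (hcol : ∀ j, j < n → x.1 *ᵥ bas j = bas j + X j)
    (hX : ∀ j, j + 1 < n → x.1 *ᵥ X j = X j) {s : F} (hXl : x.1 *ᵥ X (n - 1) = X (n - 1) + s • bas 0) :
    Z P 0 s := by
  have hperp : (bas (n - 1) : Fin n → F) ⬝ᵥ (s • bas 0) = 0 := by
    rw [dotProduct_smul, last_dot_bas (show 0 + 1 < n by omega), smul_zero]
  refine inT_map_toGL.2 ⟨hperp, ?_⟩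
  convert P.pow_mem hx 2 using 1
  refine Subtype.ext (ext_bas fun k hk => ?_)
  rw [tau_val hperp, tvMat_mulVec, dot_bas _ hk, coe_pow_succ_mulVec, pow_one, hcol k hk,
    mulVec_add, hcol k hk]
  have hXX : X k + X k = 0 := by
    rw [← two_smul F, h2, zero_smul]
  by_cases h : k + 1 < n
  · rw [hX k h, add_assoc, hXX]
    simp [bas, show k ≠ n - 1 by omega]
  · obtain rfl : k = n - 1 := by omega
    rw [hXl, ← add_assoc, add_assoc (bas (n - 1)), hXX]
    simp [bas]

end Cfsg.Lib.Linear.TwoReg
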