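import Cfsg.Agent.Lib.Linear.TwoReg.Patterns

/-!
# Two regular unipotent elements generating `SL_n`: the designs
-/

set_option autoImplicit false
set_option linter.style.haveILetI false
set_option maxHeartbeats 1000000

namespace Cfsg.Lib.Linear.TwoReg

open Matrix Cfsg.Lib.Linear Cfsg.Lib.Linear.TVec Cfsg.Lib.Linear.AutPSL Cfsg.Lib.Linear.MinIndex
open Cfsg.Lib.Linear.RegUnipotentGen
open scoped MatrixGroups

variable {n : ℕ} {F : Type*} [Field F]

variable [Fintype F]

theorem row_of_cols {x : Matrix (Fin n) (Fin n) F} {k : ℕ} (hk : k < n) (y : Fin n → F)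
    (h : ∀ j, j < n → ∀ hjn : j < n, (x *ᵥ bas j) ⟨k, hk⟩ = y ⟨j, hjn⟩) : bas k ᵥ* x = y := by
  funext j
  rw [bas_vecMul _ hk, ← h j.val j.isLt j.isLt, mulVec_bas _ j.isLt]


theorem Datum.row_last (D : Datum n F) (hn : 0 < n)
    (h : ∀ j, j + 1 < n → (D.hS.1 *ᵥ bas j) ⟨n - 1, by omega⟩ = 0) :
    bas (n - 1) ᵥ* D.hS.1 = D.d (n - 1) • bas (n - 1) := by
  refine row_of_cols (show n - 1 < n by omega) _ fun j hj _ => ?_
  by_cases hj' : j + 1 < n
  · rw [h j hj']
    simp [bas, show j ≠ n - 1 by omega]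
  · obtain rfl : j = n - 1 := by omega
    have := D.lastCol_last hn
    simp only [Datum.lastCol] at this
    simp [bas, this]

theorem qDatum_row_last {d : ℕ → F} {hd : ∀ j, d j ≠ 0} {hd0 : d 0 = 1} {S : Finset ℕ} {hS : ∀ k ∈ S, 1 ≤ k}
    (hn : 2 ≤ n) :
    bas (n - 1) ᵥ* (qDatum (n := n) d hd hd0 S hS).hS.1 = d (n - 1) • bas (n - 1) := by
  refine Datum.row_last _ (by omega) fun j hj => ?_
  rw [qDatum_col hj]
  split_ifs <;> simp [bas, show n - 1 ≠ j by omega, show n - 1 ≠ 0 by omega]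

theorem diag_col {d : ℕ → F} {hd : ∀ j, d j ≠ 0} {hd0 : d 0 = 1} {hS : ∀ k ∈ (∅ : Finset ℕ), 1 ≤ k} {j : ℕ}
    (hj : j + 1 < n) :
    (qDatum (n := n) d hd hd0 ∅ hS).hS.1 *ᵥ bas j = (d j / d (j + 1)) • bas j := by
  rw [qDatum_col hj]
  simp

theorem diag_seed {d : ℕ → F} {hd : ∀ j, d j ≠ 0} {hd0 : d 0 = 1} {hS : ∀ k ∈ (∅ : Finset ℕ), 1 ≤ k}
    {j0 : ℕ} (hj0 : j0 + 1 < n) (hr0 : d j0 / d (j0 + 1) = d (n - 1))
    (hdeg : ∀ j, j + 1 < n → j ≠ j0 → d j / d (j + 1) = d (n - 1) → d (j + 1) = 1 ∨ cc n F (j + 1) = 0)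
    (hL : cc n F (j0 + 1) ≠ 0) (hL' : d (j0 + 1) ≠ 1) :
    ∃ s : F, s ≠ 0 ∧ Z (qDatum (n := n) d hd hd0 ∅ hS).grp j0 s := by
  refine seed (Datum.hS_mem _) hj0 (r := fun j => d j / d (j + 1)) (N := fun _ => 0)
    (L := (qDatum (n := n) d hd hd0 ∅ hS).ll) (hd (n - 1)) (fun j _ => dd_ne hd j) hr0 rfl
    (fun j hj => by rw [diag_col hj]; simp) (Datum.h_last _ (by omega)) (fun j hj hne h => ⟨?_, rfl⟩) ?_
  · rw [diag_ll hj]
    rcases hdeg j hj hne h with e | e <;> simp [e]
  · simp only [mul_zero, zero_div, Finset.sum_const_zero, add_zero]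
    rw [diag_ll hj0]
    refine mul_ne_zero (mul_ne_zero (hd _) hL) (sub_ne_zero.2 fun e => hL' ?_)
    exact inv_eq_one.1 e

/-- Centres climb along the quotient over a prime field. -/
theorem climb (hq : (Fintype.card F).Prime) (hn : 4 ≤ n) {P : Subgroup (SpecialLinearGroup (Fin n) F)}
    (hu : cu n F ∈ P) {x : SpecialLinearGroup (Fin n) F} (hx : x ∈ P) {ρ r0 L0 : F} (hρ : ρ ≠ 0) (hr0 : r0 ≠ 0)
    (hL0 : L0 ≠ 0) (hrow0 : bas 0 ᵥ* x.1 = r0 • bas 0 + L0 • bas (n - 1))
    (hrowl : bas (n - 1) ᵥ* x.1 = ρ • bas (n - 1)) {r : ℕ → F} (hr : ∀ j, r j ≠ 0)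
    (hcol : ∀ j, 2 ≤ j → j + 1 < n → x.1 *ᵥ bas j = r j • bas j) {c : F} (hc : c ≠ 0) (h : Z P 1 c) :
    ∀ d, Z P 0 d := by
  have key : ∀ j, 1 ≤ j → j + 1 < n → ∀ d, Z P j d := by
    intro j hj1
    induction j, hj1 using Nat.le_induction with
    | base => exact fun _ => Z_all_of_prime hq hc h
    | succ j hj1 ih =>
      intro hj
      have hAall : ∀ d, A P (j + 1) d := by
        intro d
        have := A_of_Z hu (show j + 1 < n by omega) (ih (by omega) (cc n F 0 * d))
        rwa [inv_mul_cancel_left₀ cc_ne_zero] at this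
      have h1 := conj_mem hx (hAall 1) (q := r0⁻¹ • bas 0 + (-(r0⁻¹ * L0 / ρ)) • bas (n - 1)) (by
        rw [add_vecMul, smul_vecMul, smul_vecMul, hrow0, hrowl, smul_add, smul_smul, smul_smul, smul_smul,
          inv_mul_cancel₀ hr0, one_smul, add_assoc, ← add_smul]
        have : r0⁻¹ * L0 + -(r0⁻¹ * L0 / ρ) * ρ = 0 := by field_simp; ring
        rw [this, zero_smul, add_zero])
      rw [one_smul, hcol (j + 1) (by omega) hj] at h1
      have h2 : TVec.InT (P.map SpecialLinearGroup.toGL) (r (j + 1) • bas (j + 1)) ((-r0⁻¹) • bas 0) := by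
        refine inT_smul_right ?_
        rw [smul_smul]
        exact hAall _
      have h3 := inT_add_right h1 h2
      rw [neg_smul r0⁻¹ (bas 0 : Fin n → F), add_comm (r0⁻¹ • (bas 0 : Fin n → F)) _, add_assoc, add_neg_cancel,
        add_zero] at h3
      refine Z_all_of_prime hq ?_ (inT_scale h3)
      exact mul_ne_zero (neg_ne_zero.2 (div_ne_zero (mul_ne_zero (inv_ne_zero hr0) hL0) hρ)) (hr _)
  obtain ⟨d, hd, hd'⟩ := Z_down hu (by omega) one_ne_zero (key (n - 2) (by omega) (by omega) 1)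
  exact Z_all_of_prime hq hd hd'

theorem top_of_seed_prime (hq : (Fintype.card F).Prime) (hn : 2 ≤ n) (D : Datum n F) {j : ℕ}
    (hj : j = 0 ∨ j = n - 2) (h : ∃ s : F, s ≠ 0 ∧ Z D.grp j s) : D.grp = ⊤ := by
  obtain ⟨s, hs, h⟩ := h
  obtain ⟨s', hs', h'⟩ : ∃ s : F, s ≠ 0 ∧ Z D.grp 0 s := by
    rcases hj with rfl | rfl
    · exact ⟨s, hs, h⟩
    · exact Z_down D.cu_mem hn hs h
  exact top_of_full hn D.cu_mem (Z_all_of_prime hq hs' h')

/-- Prime field, `p ∤ n`, determinant `-1`. -/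
theorem prime_diag (hq : (Fintype.card F).Prime) (hn : 4 ≤ n) (h2 : (2 : F) ≠ 0) (hpn : (n : F) ≠ 0) :
    ∃ D : Datum n F, D.gmat.det = -1 ∧ D.grp = ⊤ := by
  have hd : ∀ j, (fun j => if j + 1 = n then (-1 : F) else 1) j ≠ 0 := fun j => by
    dsimp only; split_ifs <;> simp
  refine ⟨qDatum (fun j => if j + 1 = n then (-1 : F) else 1) hd (if_neg (by omega)) ∅ (by simp), ?_,
    top_of_seed_prime hq (by omega) _ (Or.inr rfl) (diag_seed (show n - 2 + 1 < n by omega) ?_ ?_ ?_ ?_)⟩
  · rw [Datum.det_gmat, Finset.prod_eq_single ⟨n - 1, by omega⟩]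
    · exact if_pos (show n - 1 + 1 = n by omega)
    · intro b _ hb
      exact if_neg fun e => hb (Fin.ext (show b.val = n - 1 by omega))
    · simp
  · simp [show n - 2 + 1 ≠ n by omega, show n - 2 + 1 + 1 = n by omega, show n - 1 + 1 = n by omega]
  · intro j hj hne he
    exfalso
    simp only [if_neg (show ¬ j + 1 = n by omega), if_neg (show ¬ j + 1 + 1 = n by omega), div_one,
      if_pos (show n - 1 + 1 = n by omega)] at he
    exact h2 (by linear_combination he)
  · rw [show n - 2 + 1 = n - 1 by omega, cc_pred (by omega)]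
    exact hpn
  · simp only [if_pos (show n - 2 + 1 + 1 = n by omega)]
    exact fun e => h2 (by linear_combination -e)

omit [Fintype F] in
theorem prod_alt (t : ℕ) :
    ∏ j ∈ Finset.range (4 * t + 4), (if j < 2 then (-1 : F) ^ j else (-1) ^ (j + 1)) = 1 := by
  induction t with
  | zero => norm_num [Finset.prod_range_succ]
  | succ t ih =>
    rw [show 4 * (t + 1) + 4 = 4 * t + 4 + 1 + 1 + 1 + 1 by ring, Finset.prod_range_succ, Finset.prod_range_succ,
      Finset.prod_range_succ, Finset.prod_range_succ, ih, if_neg (by omega), if_neg (by omega), if_neg (by omega),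
      if_neg (by omega)]
    simp [pow_succ, pow_mul]

/-- Prime field, `n ≡ 0 (mod 4)`, `p ∤ n`, `p ∤ C(n,2)`. -/
theorem prime_alt (hq : (Fintype.card F).Prime) (hn : 4 ≤ n) (h4 : 4 ∣ n) (h2 : (2 : F) ≠ 0)
    (hpn : (n : F) ≠ 0) (hC : (n.choose 2 : F) ≠ 0) :
    ∃ D : Datum n F, D.gmat.det = 1 ∧ D.grp = ⊤ := by
  set d : ℕ → F := fun j => if j < 2 then (-1) ^ j else (-1) ^ (j + 1) with hd'
  have hd : ∀ j, d j ≠ 0 := fun j => by simp only [hd']; split_ifs <;> simp
  have hne : ∀ a : F, a = 1 → a ≠ -1 := fun a e e' => h2 (by linear_combination e' - e)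
  have heven : Even n := by obtain ⟨k, rfl⟩ := h4; exact ⟨2 * k, by ring⟩
  have dl : d (n - 1) = 1 := by
    simp only [hd', if_neg (show ¬ n - 1 < 2 by omega), show n - 1 + 1 = n by omega]
    exact heven.neg_one_pow
  set D := qDatum (n := n) d hd (by simp [hd']) ∅ (by simp)
  refine ⟨D, ?_, ?_⟩
  · rw [Datum.det_gmat]
    obtain ⟨k, rfl⟩ := h4
    obtain ⟨t, rfl⟩ : ∃ t, k = t + 1 := ⟨k - 1, by omega⟩
    rw [Fin.prod_univ_eq_prod_range (fun j => D.d j) (4 * (t + 1))]
    exact prod_alt t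
  have hr0 : d 0 / d 1 = -1 := by simp [hd']
  have hr1 : d 1 / d 2 = 1 := by norm_num [hd']
  have hrj : ∀ j, 2 ≤ j → d j / d (j + 1) = -1 := by
    intro j hj
    simp only [hd', if_neg (show ¬ j < 2 by omega), if_neg (show ¬ j + 1 < 2 by omega)]
    rw [pow_succ (-1 : F) (j + 1)]
    field_simp
  obtain ⟨s, hs, hZ⟩ : ∃ s : F, s ≠ 0 ∧ Z D.grp 1 s := by
    refine diag_seed (show 1 + 1 < n by omega) (hr1.trans dl.symm) ?_ ?_ ?_
    · intro j hj hne1 he
      exfalso
      rw [dl] at he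
      rcases Nat.lt_or_ge j 2 with h | h
      · obtain rfl : j = 0 := by omega
        rw [hr0] at he
        exact hne _ rfl he.symm
      · rw [hrj j h] at he
        exact hne _ rfl he.symm
    · simp only [cc, neg_ne_zero]
      exact mul_ne_zero (pow_ne_zero _ (by simp)) hC
    · norm_num [hd']
      exact fun e => hne _ rfl e.symm
  have hL0 : D.ll 0 ≠ 0 := by
    rw [diag_ll (show 0 + 1 < n by omega), dl, one_mul, cc_one (by omega), heven.neg_one_pow, one_mul]
    refine mul_ne_zero hpn (sub_ne_zero.2 ?_)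
    simp [hd']
    exact fun e => hne _ rfl e.symm
  refine top_of_full (by omega) D.cu_mem (climb hq hn D.cu_mem D.hS_mem (hd (n - 1)) (dd_ne hd 0) hL0 ?_
    (qDatum_row_last (by omega)) (dd_ne hd) (fun j _ hj => diag_col hj) hs hZ)
  refine row_of_cols (show 0 < n by omega) _ fun j hj _ => ?_
  by_cases hj' : j + 1 < n
  · rw [diag_col hj']
    rcases Nat.eq_zero_or_pos j with rfl | hj0
    · simp [bas]; omega
    · simp [bas, show ¬ (0 : ℕ) = j by omega, show ¬ j = 0 by omega, show j ≠ n - 1 by omega]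
  · obtain rfl : j = n - 1 := by omega
    rw [D.h_last (by omega), Pi.add_apply, Finset.sum_apply, Finset.sum_eq_single 0]
    · simp [bas, show ¬ (0 : ℕ) = n - 1 by omega, show ¬ n - 1 = 0 by omega]
    · intro i _ hi
      simp [bas, Ne.symm hi]
    · intro h
      exact absurd (Finset.mem_range.2 (by omega)) h

/-- Prime field, `n ≡ 0 (mod 4)`, `p ∤ n`, `p ∣ C(n,2)`. -/
theorem prime_extra (hq : (Fintype.card F).Prime) (hn : 5 ≤ n) (h2 : (2 : F) ≠ 0) (hpn : (n : F) ≠ 0)
    (hC : (n.choose 2 : F) = 0) :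
    ∃ D : Datum n F, D.gmat.det = 1 ∧ D.grp = ⊤ := by
  set d : ℕ → F := fun j => if j = 2 ∨ j + 1 = n then -1 else 1 with hd'
  have hd : ∀ j, d j ≠ 0 := fun j => by simp only [hd']; split_ifs <;> simp
  set D := qDatum (n := n) d hd (by simp [hd']; omega) ∅ (by simp)
  refine ⟨D, ?_, top_of_seed_prime hq (by omega) D (Or.inr rfl) ?_⟩
  · rw [Datum.det_gmat, Finset.prod_eq_mul (⟨2, by omega⟩ : Fin n) ⟨n - 1, by omega⟩]
    · show d 2 * d (n - 1) = 1
      simp [hd', show n - 1 + 1 = n by omega]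
    · intro e; have := congrArg Fin.val e; simp at this; omega
    · intro c _ hc
      show d c.val = 1
      simp only [hd']
      rw [if_neg]
      rintro (e | e)
      · exact hc.1 (Fin.ext e)
      · exact hc.2 (Fin.ext (show c.val = n - 1 by omega))
    · simp
    · simp
  have dl : d (n - 1) = -1 := by simp [hd', show n - 1 + 1 = n by omega]
  refine diag_seed (show n - 2 + 1 < n by omega) ?_ ?_ ?_ ?_
  · simp [hd', show n - 2 ≠ 2 by omega, show ¬ n - 2 + 1 = n by omega, show n - 2 + 1 + 1 = n by omega,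
      show n - 1 + 1 = n by omega]
  · intro j hj hne he
    rw [dl] at he
    by_cases h12 : j = 1 ∨ j = 2
    · rcases h12 with rfl | rfl
      · right
        simp [cc, hC]
      · left
        simp [hd', show ¬ 2 + 1 + 1 = n by omega]
    · exfalso
      have e1 : d j = 1 := by simp only [hd']; rw [if_neg]; omega
      have e2 : d (j + 1) = 1 := by simp only [hd']; rw [if_neg]; omega
      rw [e1, e2, div_one] at he
      exact h2 (by linear_combination he)
  · rw [show n - 2 + 1 = n - 1 by omega, cc_pred (by omega)]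
    exact hpn
  · rw [show n - 2 + 1 = n - 1 by omega, dl]
    exact fun e => h2 (by linear_combination -e)

/-- Prime field, `p ∣ n`, determinant `(-1)^(n-1)`. -/
theorem prime_div (hq : (Fintype.card F).Prime) (hn : 5 ≤ n) (h2 : (2 : F) ≠ 0) (hpn : (n : F) = 0) :
    ∃ D : Datum n F, D.gmat.det = (-1) ^ (n - 1) ∧ D.grp = ⊤ := by
  classical
  set d : ℕ → F := fun j => if j = 0 then 1 else -1 with hd'
  have hd : ∀ j, d j ≠ 0 := fun j => by simp only [hd']; split_ifs <;> simp
  have hd0 : d 0 = 1 := by simp [hd']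
  have dj : ∀ j, 1 ≤ j → d j = -1 := fun j hj => by simp [hd', show j ≠ 0 by omega]
  obtain ⟨c0, hc0⟩ := bDatum_kappa (d := d) (hd := hd) (hd0 := hd0) hn hpn
  obtain ⟨B, hB⟩ : ∃ B : F, c0 + B * (-2 * d (n - 1) / d 1 - d (n - 1) / d 2 / (d (n - 1) - d 1 / d 2) -
      d (n - 2) / d 1 / (d (n - 1) - d (n - 2) / d (n - 1))) ≠ 0 := by
    have hk : (-2 * d (n - 1) / d 1 - d (n - 1) / d 2 / (d (n - 1) - d 1 / d 2) -
      d (n - 2) / d 1 / (d (n - 1) - d (n - 2) / d (n - 1))) = -1 := by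
      rw [dj 1 le_rfl, dj 2 (by omega), dj (n - 1) (by omega), dj (n - 2) (by omega),
        show (-1 : F) - -1 / -1 = -2 by ring]
      field_simp
      ring
    rw [hk]
    by_cases h : c0 = 0
    · exact ⟨1, by simp [h]⟩
    · exact ⟨0, by simpa⟩
  refine ⟨bDatum hn d hd hd0 B, ?_, top_of_seed_prime hq (by omega) _ (Or.inl rfl) ?_⟩
  · obtain ⟨m, rfl⟩ : ∃ m, n = m + 1 := ⟨n - 1, by omega⟩
    rw [Datum.det_gmat, Fin.prod_univ_succ]
    simp [bDatum, hd']
  refine seed (Datum.hS_mem _) (show 0 + 1 < n by omega) (r := fun j => d j / d (j + 1))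
    (N := fun j => if j = 1 then 1 else if j + 2 = n then d j * B / d 1 else 0)
    (L := (bDatum hn d hd hd0 B).ll) (hd (n - 1)) (fun j _ => dd_ne hd j) ?_ ?_ (fun j hj => bDatum_col hn hj)
    (Datum.h_last _ (by omega)) ?_ ?_
  · show d 0 / d (0 + 1) = d (n - 1)
    rw [hd0, dj 1 le_rfl, dj (n - 1) (by omega)]
    norm_num
  · simp; omega
  · intro j hj hne he
    exfalso
    rw [dj j (by omega), dj (j + 1) (by omega), dj (n - 1) (by omega), div_self (by simp)] at he
    exact h2 (by linear_combination he)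
  · convert hB using 1
    rw [← hc0 B, Finset.sum_eq_add 1 (n - 2) (by omega)]
    · simp only [Datum.ll, if_true, show n - 2 ≠ 1 by omega, show n - 2 + 2 = n by omega, if_false,
        show n - 2 + 1 = n - 1 by omega]
      have e1 : cc n F 1 = 0 := by rw [cc_one (by omega), hpn, mul_zero]
      show _ / d (0 + 1) - d (n - 1) * cc n F (0 + 1) + _ = _
      rw [show (0 : ℕ) + 1 = 1 from rfl, e1, mul_zero, sub_zero, show (1 : ℕ) + 1 = 2 from rfl, add_assoc]
      rfl
    · intro c _ hc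
      simp [hc.1, show ¬ c + 2 = n by omega]
    · intro h; exact absurd (by simp; omega) h
    · intro h; exact absurd (by simp; omega) h

/-- Prime field, `n ≡ 0 (mod 4)`, `p ∣ n`. -/
theorem prime_div_four (hq : (Fintype.card F).Prime) (h4 : 4 ∣ n) (hn : 12 ≤ n) (h2 : (2 : F) ≠ 0)
    (hpn : (n : F) = 0) :
    ∃ D : Datum n F, D.gmat.det = 1 ∧ D.grp = ⊤ := by
  classical
  set d : ℕ → F := fun j => if j = 0 ∨ j + 2 = n then 1 else -1 with hd'
  have hd : ∀ j, d j ≠ 0 := fun j => by simp only [hd']; split_ifs <;> simp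
  have hd0 : d 0 = 1 := by simp [hd']
  obtain ⟨a, rfl⟩ : ∃ a, n = 2 * a + 2 := ⟨n / 2 - 1, by omega⟩
  have hodd : a % 2 = 1 := by omega
  set S : Finset ℕ := {a, a + 1}
  have hS : ∀ k ∈ S, 1 ≤ k := by intro k hk; simp [S] at hk; omega
  set D := qDatum (n := 2 * a + 2) d hd hd0 S hS
  have dj : ∀ j, 1 ≤ j → j ≠ 2 * a → d j = -1 := fun j h1 h2 => by simp only [hd']; rw [if_neg]; omega
  have d2a : d (2 * a) = 1 := by simp [hd']
  refine ⟨D, ?_, top_of_seed_prime hq (by omega) D (Or.inl rfl) ?_⟩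
  · rw [Datum.det_gmat, Fin.prod_univ_eq_prod_range (fun j => D.d j) (2 * a + 2), Finset.prod_range_succ,
      Finset.prod_range_succ, Finset.prod_range_eq_mul_Ico _ (show 0 < 2 * a by omega)]
    show d 0 * (∏ j ∈ Finset.Ico 1 (2 * a), d j) * d (2 * a) * d (2 * a + 1) = 1
    rw [Finset.prod_congr rfl fun j hj => dj j (Finset.mem_Ico.1 hj).1 (Finset.mem_Ico.1 hj).2.ne, hd0, d2a,
      dj (2 * a + 1) (by omega) (by omega), Finset.prod_const, Nat.card_Ico]
    rw [one_mul, mul_one, ← pow_succ, show 2 * a - 1 + 1 = 2 * a by omega]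
    exact (even_two_mul a).neg_one_pow
  have hρ : d (2 * a + 2 - 1) = -1 := dj _ (by omega) (by omega)
  have hSn : ∀ k ∈ S, k + 1 < 2 * a + 2 := by intro k hk; simp [S] at hk; omega
  have hlast : cc (2 * a + 2) F (2 * a + 1) = 0 := by
    rw [show 2 * a + 1 = 2 * a + 2 - 1 by omega, cc_pred (by omega), hpn]
  have hzero : ∀ m, 2 * a + 2 ≤ m → D.kk m = 0 := fun m hm => dif_neg fun h => absurd h.2 (by omega)
  have heq : ∀ m, 1 ≤ m → m < 2 * a + 2 → D.kk m - (D.kk (m + a) + D.kk (m + (a + 1))) =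
      -(cc (2 * a + 2) F m - if 2 * a + 2 - m = a ∨ 2 * a + 2 - m = a + 1 then 1 else 0) := by
    intro m hm hmn
    have := qDatum_eqn (d := d) (hd := hd) (hd0 := hd0) (hS := hS) hSn hm hmn
    rw [Finset.sum_pair (by omega), hρ] at this
    simp only [S, Finset.mem_insert, Finset.mem_singleton] at this
    linear_combination this
  have k1 : D.kk (2 * a + 1) = 0 := by
    have := heq (2 * a + 1) (by omega) (by omega)
    rw [hzero (2 * a + 1 + a) (by omega), hzero (2 * a + 1 + (a + 1)) (by omega), if_neg (by omega), hlast] at this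
    linear_combination this
  have k2 : D.kk (2 * a) = -cc (2 * a + 2) F (2 * a) := by
    have := heq (2 * a) (by omega) (by omega)
    rw [hzero (2 * a + a) (by omega), hzero (2 * a + (a + 1)) (by omega), if_neg (by omega)] at this
    linear_combination this
  have kb : D.kk (a + 2) = 1 - cc (2 * a + 2) F (a + 2) := by
    have := heq (a + 2) (by omega) (by omega)
    rw [hzero (a + 2 + a) (by omega), hzero (a + 2 + (a + 1)) (by omega), if_pos (by omega)] at this
    linear_combination this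
  have ka : D.kk (a + 1) = 1 - cc (2 * a + 2) F (a + 1) := by
    have := heq (a + 1) (by omega) (by omega)
    rw [show a + 1 + a = 2 * a + 1 by omega, k1, hzero (a + 1 + (a + 1)) (by omega), if_pos (by omega)] at this
    linear_combination this
  have k0 : D.kk 1 = 2 - cc (2 * a + 2) F (a + 1) - cc (2 * a + 2) F (a + 2) := by
    have := heq 1 le_rfl (by omega)
    rw [show 1 + a = a + 1 by omega, show 1 + (a + 1) = a + 2 by omega, ka, kb, if_neg (by omega),
      cc_one (by omega), hpn] at this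
    linear_combination this
  refine seed (Datum.hS_mem _) (show 0 + 1 < 2 * a + 2 by omega) (r := fun j => d j / d (j + 1))
    (N := fun j => if j ∈ S then d j / d 1 else 0)
    (L := D.ll) (hd (2 * a + 2 - 1)) (fun j _ => dd_ne hd j) ?_ ?_ (fun j hj => qDatum_col hj)
    (D.h_last (by omega)) ?_ ?_
  · show d 0 / d (0 + 1) = _
    rw [hd0, hρ, dj 1 le_rfl (by omega)]
    norm_num
  · simp [S]; omega
  · intro j hj hne he
    by_cases h : j + 1 = 2 * a ∨ j = 2 * a
    · refine ⟨?_, by simp [S]; omega⟩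
      show D.kk (j + 1) / d (j + 1) - d (2 * a + 2 - 1) * cc _ F (j + 1) = 0
      rcases h with h | h
      · rw [h, k2, d2a, hρ]; ring
      · rw [h, k1, hlast]; ring
    · exfalso
      rw [hρ, dj j (by omega) (by omega), dj (j + 1) (by omega) (by omega), div_self (by simp)] at he
      exact h2 (by linear_combination he)
  · rw [Finset.sum_eq_add a (a + 1) (by omega)]
    · simp only [Datum.ll, S, Finset.mem_insert, Finset.mem_singleton, true_or, or_true, if_true]
      show D.kk (0 + 1) / d (0 + 1) - d (2 * a + 2 - 1) * cc _ F (0 + 1) +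
        ((D.kk (a + 1) / d (a + 1) - d (2 * a + 2 - 1) * cc _ F (a + 1)) * (d a / d 1) /
            (d (2 * a + 2 - 1) - d a / d (a + 1)) +
          (D.kk (a + 1 + 1) / d (a + 1 + 1) - d (2 * a + 2 - 1) * cc _ F (a + 1 + 1)) * (d (a + 1) / d 1) /
            (d (2 * a + 2 - 1) - d (a + 1) / d (a + 1 + 1))) ≠ 0
      rw [show a + 1 + 1 = a + 2 from rfl, show (0 : ℕ) + 1 = 1 from rfl, k0, ka, kb, hρ, dj 1 le_rfl (by omega),
        dj a (by omega) (by omega), dj (a + 1) (by omega) (by omega), dj (a + 2) (by omega) (by omega),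
        cc_one (show 0 < 2 * a + 2 by omega), hpn]
      have e : (-1 : F) - -1 / -1 = -2 := by ring
      intro h
      apply one_ne_zero (α := F)
      rw [e] at h
      field_simp at h
      apply mul_left_cancel₀ h2
      linear_combination -h
    · intro c _ hc
      simp [S, hc.1, hc.2]
    · intro h; exact absurd (by simp; omega) h
    · intro h; exact absurd (by simp; omega) h

end Cfsg.Lib.Linear.TwoReg
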