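import Cfsg.Agent.Lib.Linear.TwoReg.Constr

/-!
# Two regular unipotent elements generating `SL_n`: the patterns of conjugating matrices
-/

set_option autoImplicit false
set_option linter.style.haveILetI false

namespace Cfsg.Lib.Linear.TwoReg

open Matrix Cfsg.Lib.Linear Cfsg.Lib.Linear.TVec Cfsg.Lib.Linear.AutPSL Cfsg.Lib.Linear.MinIndex
open Cfsg.Lib.Linear.RegUnipotentGen
open scoped MatrixGroups

variable {n : ℕ} {F : Type*} [Field F]

theorem dd_ne {d : ℕ → F} (h : ∀ j, d j ≠ 0) (j : ℕ) : d j / d (j + 1) ≠ 0 := div_ne_zero (h j) (h (j + 1))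

/-- The pattern given by a set of shifts. -/
def qS (S : Finset ℕ) (j : ℕ) : Fin n → F := bas j - ∑ k ∈ S.filter (· < j), bas (j - k)

theorem qS_apply (S : Finset ℕ) (j : ℕ) (i : Fin n) :
    (qS S j : Fin n → F) i = (if i.val = j then 1 else 0) - ∑ k ∈ S.filter (· < j), if i.val = j - k then 1 else 0 := by
  simp [qS, bas_apply, Finset.sum_apply]

/-- The datum of a set of shifts. -/
def qDatum (d : ℕ → F) (hd : ∀ j, d j ≠ 0) (hd0 : d 0 = 1) (S : Finset ℕ) (hS : ∀ k ∈ S, 1 ≤ k) : Datum n F where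
  d := d
  qv := qS S
  hd := hd
  hd0 := hd0
  hdiag i := by
    rw [qS_apply, if_pos rfl, Finset.sum_eq_zero, sub_zero]
    intro k hk
    have := hS k (Finset.mem_filter.1 hk).1
    have := (Finset.mem_filter.1 hk).2
    rw [if_neg (by omega)]
  hup j i hji := by
    rw [qS_apply, if_neg (by omega), Finset.sum_eq_zero, sub_zero]
    intro k hk
    rw [if_neg (by omega)]
  h0 j i hj hi := by
    rw [qS_apply, if_neg (by omega), Finset.sum_eq_zero, sub_zero]
    intro k hk
    have := (Finset.mem_filter.1 hk).2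
    rw [if_neg (by omega)]

variable [Fintype F]

theorem qDatum_col {d : ℕ → F} {hd : ∀ j, d j ≠ 0} {hd0 : d 0 = 1} {S : Finset ℕ} {hS : ∀ k ∈ S, 1 ≤ k}
    {j : ℕ} (hj : j + 1 < n) :
    (qDatum (n := n) d hd hd0 S hS).hS.1 *ᵥ bas j =
      (d j / d (j + 1)) • bas j + (if j ∈ S then d j / d 1 else 0) • bas 0 := by
  refine Datum.h_eq _ ?_
  rw [mulVec_add, mulVec_smul, mulVec_smul, cm_bas hj, cm_bas (show 0 + 1 < n by omega), mulVec_add, mulVec_smul,
    mulVec_smul, Datum.gmat_bas _ hj, Datum.gmat_bas _ (show 0 + 1 < n by omega),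
    Datum.gmat_bas _ (show j < n by omega), mulVec_smul]
  show (d j / d (j + 1)) • d (j + 1) • qS S (j + 1) + (if j ∈ S then d j / d 1 else 0) • d 1 • qS S 1 =
    d j • cm n F *ᵥ qS S j
  rw [smul_smul, div_mul_cancel₀ _ (hd _)]
  have e1 : (qS S 1 : Fin n → F) = bas 1 := by
    rw [qS, Finset.sum_eq_zero, sub_zero]
    intro k hk
    have := hS k (Finset.mem_filter.1 hk).1
    have := (Finset.mem_filter.1 hk).2
    omega
  have e2 : cm n F *ᵥ qS S j = bas (j + 1) - ∑ k ∈ S.filter (· < j), (bas (j + 1 - k) : Fin n → F) := by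
    rw [qS, mulVec_sub, cm_bas hj, mulVec_sum]
    congr 1
    refine Finset.sum_congr rfl fun k hk => ?_
    have := (Finset.mem_filter.1 hk).2
    rw [cm_bas (show j - k + 1 < n by omega), show j - k + 1 = j + 1 - k by omega]
  rw [e1, e2, qS]
  by_cases hjS : j ∈ S
  · rw [if_pos hjS, smul_smul, div_mul_cancel₀ _ (hd _)]
    have e3 : S.filter (· < j + 1) = insert j (S.filter (· < j)) := by
      ext k
      simp only [Finset.mem_filter, Finset.mem_insert]
      exact ⟨fun h => (Nat.lt_succ_iff_lt_or_eq.1 h.2).elim (fun h2 => Or.inr ⟨h.1, h2⟩) Or.inl,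
        fun h => h.elim (fun h2 => ⟨h2.symm ▸ hjS, by omega⟩) fun h2 => ⟨h2.1, by omega⟩⟩
    rw [e3, Finset.sum_insert (by simp), show j + 1 - j = 1 by omega]
    module
  · rw [if_neg hjS, zero_smul, add_zero]
    have e3 : S.filter (· < j + 1) = S.filter (· < j) := by
      refine Finset.filter_congr fun k hk => ?_
      have : k ≠ j := fun h => hjS (h ▸ hk)
      omega
    rw [e3]

theorem qDatum_eqn {d : ℕ → F} {hd : ∀ j, d j ≠ 0} {hd0 : d 0 = 1} {S : Finset ℕ} {hS : ∀ k ∈ S, 1 ≤ k}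
    (hSn : ∀ k ∈ S, k + 1 < n) {m : ℕ} (hm : 1 ≤ m) (hmn : m < n) :
    (qDatum (n := n) d hd hd0 S hS).kk m - ∑ k ∈ S, (qDatum (n := n) d hd hd0 S hS).kk (m + k) =
      d (n - 1) * (cc n F m - if n - m ∈ S then 1 else 0) := by
  set D := qDatum (n := n) d hd hd0 S hS
  have h := D.eqn hm hmn
  have eR : D.qv (n - 1) ⟨m - 1, by omega⟩ = -(if n - m ∈ S then 1 else 0) := by
    show qS S (n - 1) _ = _
    rw [qS_apply, if_neg (show m - 1 ≠ n - 1 by omega), zero_sub]
    congr 1
    show (∑ k ∈ S.filter (· < n - 1), if m - 1 = n - 1 - k then (1 : F) else 0) = _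
    rw [Finset.sum_filter, ← Finset.sum_ite_eq' S (n - m) (fun _ => (1 : F))]
    refine Finset.sum_congr rfl fun k hk => ?_
    have := hS k hk
    have := hSn k hk
    rw [if_pos (show k < n - 1 by omega)]
    exact if_congr ⟨fun h => by omega, fun h => by omega⟩ rfl rfl
  have eL : ∑ j : Fin n, D.kk j.val * D.qv j.val ⟨m, hmn⟩ = D.kk m - ∑ k ∈ S, D.kk (m + k) := by
    show ∑ j : Fin n, D.kk j.val * qS S j.val ⟨m, hmn⟩ = _
    simp only [qS_apply, mul_sub, Finset.sum_sub_distrib, mul_ite, mul_one, mul_zero]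
    congr 1
    · rw [Finset.sum_eq_single ⟨m, hmn⟩]
      · simp
      · intro b _ hb
        rw [if_neg fun e => hb (Fin.ext e.symm)]
      · simp
    · simp only [Finset.mul_sum, mul_ite, mul_one, mul_zero, Finset.sum_filter]
      rw [Finset.sum_comm]
      refine Finset.sum_congr rfl fun k hk => ?_
      by_cases h : m + k < n
      · rw [Finset.sum_eq_single ⟨m + k, h⟩]
        · rw [if_pos (show k < m + k by omega), if_pos (show m = m + k - k by omega)]
        · intro b _ hb
          split_ifs with h1 h2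
          · exact absurd (Fin.ext (show b.val = m + k by omega)) hb
          all_goals rfl
        · simp
      · have e0 : D.kk (m + k) = 0 := dif_neg fun hh => h hh.2
        rw [e0, Finset.sum_eq_zero]
        intro b _
        have := b.isLt
        split_ifs with h1 h2
        · omega
        all_goals rfl
  rw [eL, eR] at h
  rw [h]
  show D.d (n - 1) * _ = d (n - 1) * _
  rw [show D.d = d from rfl]
  ring

theorem diag_ll {d : ℕ → F} {hd : ∀ j, d j ≠ 0} {hd0 : d 0 = 1} {hS : ∀ k ∈ (∅ : Finset ℕ), 1 ≤ k} {i : ℕ}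
    (hi : i + 1 < n) :
    (qDatum (n := n) d hd hd0 ∅ hS).ll i = d (n - 1) * cc n F (i + 1) * ((d (i + 1))⁻¹ - 1) := by
  have h := qDatum_eqn (n := n) (d := d) (hd := hd) (hd0 := hd0) (S := ∅) (hS := hS) (by simp) (m := i + 1)
    (by omega) hi
  simp only [Finset.sum_empty, sub_zero, Finset.notMem_empty, if_false] at h
  rw [Datum.ll, h]
  show d (n - 1) * cc n F (i + 1) / d (i + 1) - d (n - 1) * cc n F (i + 1) = _
  ring

/-- The pattern for characteristic dividing `n`. -/
def qB (n : ℕ) (B : F) (j : ℕ) : Fin n → F :=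
  bas j - (if 2 ≤ j then (1 : F) else 0) • bas (j - 1) - (if j + 1 = n then B else 0) • bas 1

omit [Fintype F] in
theorem qB_apply (B : F) (j : ℕ) (i : Fin n) : qB n B j i = (if i.val = j then (1 : F) else 0) -
    (if 2 ≤ j ∧ i.val + 1 = j then (1 : F) else 0) - (if j + 1 = n ∧ i.val = 1 then B else 0) := by
  simp only [qB, Pi.sub_apply, Pi.smul_apply, bas_apply, smul_eq_mul]
  congr 1
  · congr 1
    by_cases h : 2 ≤ j
    · rw [if_pos h, one_mul]
      exact if_congr ⟨fun e => ⟨h, by omega⟩, fun e => by omega⟩ rfl rfl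
    · rw [if_neg h, zero_mul, if_neg fun e => h e.1]
  · by_cases h : j + 1 = n
    · by_cases h' : i.val = 1
      · rw [if_pos h, if_pos h', mul_one, if_pos ⟨h, h'⟩]
      · rw [if_neg h', mul_zero, if_neg fun e => h' e.2]
    · rw [if_neg h, zero_mul, if_neg fun e => h e.1]

/-- The datum for characteristic dividing `n`. -/
def bDatum (hn : 5 ≤ n) (d : ℕ → F) (hd : ∀ j, d j ≠ 0) (hd0 : d 0 = 1) (B : F) : Datum n F where
  d := d
  qv := qB n B
  hd := hd
  hd0 := hd0
  hdiag i := by
    rw [qB_apply, if_pos rfl, if_neg (by omega), if_neg (by omega), sub_zero, sub_zero]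
  hup j i hji := by
    rw [qB_apply, if_neg (by omega), if_neg (by omega), if_neg (by omega), sub_zero, sub_zero]
  h0 j i hj hi := by
    rw [qB_apply, if_neg (by omega), if_neg (by omega), if_neg (by omega), sub_zero, sub_zero]

variable {d : ℕ → F} {hd : ∀ j, d j ≠ 0} {hd0 : d 0 = 1} {B : F}

theorem bDatum_col (hn : 5 ≤ n) {j : ℕ} (hj : j + 1 < n) :
    (bDatum hn d hd hd0 B).hS.1 *ᵥ bas j = (d j / d (j + 1)) • bas j +
      (if j = 1 then 1 else if j + 2 = n then d j * B / d 1 else 0) • bas 0 := by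
  refine Datum.h_eq _ ?_
  rw [mulVec_add, mulVec_smul, mulVec_smul, cm_bas hj, cm_bas (show 0 + 1 < n by omega), mulVec_add, mulVec_smul,
    mulVec_smul, Datum.gmat_bas _ hj, Datum.gmat_bas _ (show 0 + 1 < n by omega),
    Datum.gmat_bas _ (show j < n by omega), mulVec_smul]
  show (d j / d (j + 1)) • d (j + 1) • qB n B (j + 1) +
    (if j = 1 then 1 else if j + 2 = n then d j * B / d 1 else 0) • d 1 • qB n B 1 = d j • cm n F *ᵥ qB n B j
  rw [smul_smul, div_mul_cancel₀ _ (hd _)]
  simp only [qB, mulVec_sub, mulVec_smul, cm_bas hj]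
  rw [if_neg (show ¬ 2 ≤ 1 by omega), if_neg (show ¬ 1 + 1 = n by omega), if_neg (show ¬ j + 1 = n by omega)]
  simp only [zero_smul, sub_zero]
  rcases Nat.lt_or_ge j 2 with h2 | h2
  · interval_cases j
    · rw [if_neg (show ¬ 2 ≤ 0 + 1 by omega), if_neg (show ¬ 0 + 1 + 1 = n by omega), if_neg (show ¬ (0 : ℕ) = 1 by omega),
        if_neg (show ¬ 0 + 2 = n by omega), if_neg (show ¬ 2 ≤ 0 by omega)]
      simp
    · rw [if_pos (show 2 ≤ 1 + 1 by omega), if_neg (show ¬ 1 + 1 + 1 = n by omega), if_pos rfl,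
        if_neg (show ¬ 2 ≤ 1 by omega)]
      simp [smul_sub]
  · rw [if_pos (show 2 ≤ j + 1 by omega), if_pos h2, cm_bas (show j - 1 + 1 < n by omega),
      show j - 1 + 1 = j by omega, show j + 1 - 1 = j by omega, if_neg (show ¬ j = 1 by omega)]
    by_cases h3 : j + 2 = n
    · rw [if_pos (show j + 1 + 1 = n by omega), if_pos h3, smul_smul, div_mul_cancel₀ _ (hd _)]
      module
    · rw [if_neg (show ¬ j + 1 + 1 = n by omega), if_neg h3]
      module

theorem bDatum_eqn (hn : 5 ≤ n) {m : ℕ} (hm : 1 ≤ m) (hmn : m < n) :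
    (bDatum hn d hd hd0 B).kk m - (bDatum hn d hd hd0 B).kk (m + 1) -
        (if m = 1 then B * (bDatum hn d hd hd0 B).kk (n - 1) else 0) =
      d (n - 1) * (cc n F m - (if m + 1 = n then 1 else 0) - (if m = 2 then B else 0)) := by
  set D := bDatum hn d hd hd0 B
  have h := D.eqn hm hmn
  have eR : D.qv (n - 1) ⟨m - 1, by omega⟩ = -(if m + 1 = n then 1 else 0) - (if m = 2 then B else 0) := by
    show qB n B (n - 1) _ = _
    rw [qB_apply, if_neg (show m - 1 ≠ n - 1 by omega), zero_sub]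
    congr 1
    · congr 1
      exact if_congr ⟨fun h => by have := h.2; simp only at this; omega,
        fun h => ⟨by omega, by show m - 1 + 1 = n - 1; omega⟩⟩ rfl rfl
    · exact if_congr ⟨fun h => by have := h.2; simp only at this; omega,
        fun h => ⟨by omega, by show m - 1 = 1; omega⟩⟩ rfl rfl
  have eL : ∑ j : Fin n, D.kk j.val * D.qv j.val ⟨m, hmn⟩ =
      D.kk m - D.kk (m + 1) - (if m = 1 then B * D.kk (n - 1) else 0) := by
    show ∑ j : Fin n, D.kk j.val * qB n B j.val ⟨m, hmn⟩ = _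
    simp only [qB_apply, mul_sub, Finset.sum_sub_distrib, mul_ite, mul_one, mul_zero]
    congr 1
    congr 1
    · rw [Finset.sum_eq_single ⟨m, hmn⟩]
      · simp
      · intro b _ hb
        rw [if_neg fun e => hb (Fin.ext e.symm)]
      · simp
    · by_cases h : m + 1 < n
      · rw [Finset.sum_eq_single ⟨m + 1, h⟩]
        · rw [if_pos ⟨by show 2 ≤ m + 1; omega, rfl⟩]
        · intro b _ hb
          rw [if_neg fun e => hb (Fin.ext e.2.symm)]
        · simp
      · have e0 : D.kk (m + 1) = 0 := dif_neg fun hh => h hh.2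
        rw [e0, Finset.sum_eq_zero]
        intro b _
        have := b.isLt
        rw [if_neg fun e => by omega]
    · by_cases h : m = 1
      · rw [if_pos h, Finset.sum_eq_single ⟨n - 1, by omega⟩]
        · rw [if_pos ⟨show n - 1 + 1 = n by omega, h⟩, mul_comm]
        · intro b _ hb
          rw [if_neg fun e => hb (Fin.ext (show b.val = n - 1 by omega))]
        · simp
      · rw [if_neg h, Finset.sum_eq_zero]
        intro b _
        rw [if_neg fun e => h e.2]
  rw [eL, eR] at h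
  rw [h]
  show D.d (n - 1) * _ = d (n - 1) * _
  rw [show D.d = d from rfl]
  ring

theorem bDatum_kk_high (hn : 5 ≤ n) (hpn : (n : F) = 0) :
    ∀ k m, m + k + 1 = n → 3 ≤ m →
      (bDatum hn d hd hd0 B).kk m = d (n - 1) * ((∑ i ∈ Finset.Ico m n, cc n F i) - 1) := by
  intro k
  induction k with
  | zero =>
    intro m hm h3
    have h := bDatum_eqn (B := B) (d := d) (hd := hd) (hd0 := hd0) hn (show 1 ≤ m by omega) (show m < n by omega)
    have e0 : (bDatum hn d hd hd0 B).kk (m + 1) = 0 := dif_neg fun hh => by omega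
    rw [e0, if_neg (show ¬ m = 1 by omega), if_pos (show m + 1 = n by omega), if_neg (show ¬ m = 2 by omega)] at h
    rw [show Finset.Ico m n = {m} by ext; simp; omega, Finset.sum_singleton]
    linear_combination h
  | succ k ih =>
    intro m hm h3
    have h := bDatum_eqn (B := B) (d := d) (hd := hd) (hd0 := hd0) hn (show 1 ≤ m by omega) (show m < n by omega)
    rw [ih (m + 1) (by omega) (by omega), if_neg (show ¬ m = 1 by omega), if_neg (show ¬ m + 1 = n by omega),
      if_neg (show ¬ m = 2 by omega)] at h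
    rw [Finset.sum_eq_sum_Ico_succ_bot (show m < n by omega)]
    linear_combination h

theorem bDatum_kappa (hn : 5 ≤ n) (hpn : (n : F) = 0) :
    ∃ c0 : F, ∀ B : F, (bDatum hn d hd hd0 B).kk 1 / d 1 +
        ((bDatum hn d hd hd0 B).kk 2 / d 2 - d (n - 1) * cc n F 2) * 1 / (d (n - 1) - d 1 / d 2) +
        ((bDatum hn d hd hd0 B).kk (n - 1) / d (n - 1) - d (n - 1) * cc n F (n - 1)) * (d (n - 2) * B / d 1) /
          (d (n - 1) - d (n - 2) / d (n - 1)) =
      c0 + B * (-2 * d (n - 1) / d 1 - d (n - 1) / d 2 / (d (n - 1) - d 1 / d 2) -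
        d (n - 2) / d 1 / (d (n - 1) - d (n - 2) / d (n - 1))) := by
  set a := d (n - 1) * ((∑ i ∈ Finset.Ico 3 n, cc n F i) - 1) + d (n - 1) * cc n F 2 with ha
  refine ⟨a / d 1 + (a / d 2 - d (n - 1) * cc n F 2) / (d (n - 1) - d 1 / d 2), fun B => ?_⟩
  have hlast : cc n F (n - 1) = 0 := by rw [cc_pred (by omega), hpn]
  have hK : (bDatum hn d hd hd0 B).kk (n - 1) = -d (n - 1) := by
    rw [bDatum_kk_high hn hpn 0 (n - 1) (by omega) (by omega)]
    rw [show Finset.Ico (n - 1) n = {n - 1} by ext i; simp; omega, Finset.sum_singleton, hlast]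
    ring
  have h2 := bDatum_eqn (B := B) (d := d) (hd := hd) (hd0 := hd0) hn (show 1 ≤ 2 by omega) (show 2 < n by omega)
  rw [if_neg (show ¬ (2 : ℕ) = 1 by omega), if_neg (show ¬ 2 + 1 = n by omega), if_pos rfl,
    bDatum_kk_high hn hpn (n - 4) 3 (by omega) le_rfl] at h2
  have hK2 : (bDatum hn d hd hd0 B).kk 2 = a - d (n - 1) * B := by rw [ha]; linear_combination h2
  have h1 := bDatum_eqn (B := B) (d := d) (hd := hd) (hd0 := hd0) hn (le_refl 1) (show 1 < n by omega)
  rw [if_pos rfl, if_neg (show ¬ 1 + 1 = n by omega), if_neg (show ¬ (1 : ℕ) = 2 by omega), cc_one (by omega), hpn,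
    hK, hK2] at h1
  have hK1 : (bDatum hn d hd hd0 B).kk 1 = a - 2 * d (n - 1) * B := by linear_combination h1
  rw [hK, hK1, hK2, hlast, neg_div_self (hd _)]
  ring

end Cfsg.Lib.Linear.TwoReg
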